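import Cfsg.Agent.H24J.Tools
import Cfsg.Agent.BG.SigmaBasic

set_option autoImplicit false

/-! Four primes pairwise joined in a solvable group: case A1. (owner: helper24) -/

namespace Cfsg.Agent.H24J

open Subgroup Cfsg
open scoped Pointwise commutatorElement

universe u
variable {G : Type u} [Group G] [Finite G] {σ : Finset ℕ}

/-- a `p'`-subgroup `H` of `G` acting faithfully on the `p`-group `P`. -/
structure Act (G : Type u) [Group G] [Finite G] (σ : Finset ℕ) (p : ℕ) (P H : Subgroup G) : Prop where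
  four : Four G σ
  hp : p ∈ σ
  P1 : P ≠ ⊥
  Pp : IsPGroup p P
  HP : H ≤ normalizer (P : Set G)
  faith : ∀ x ∈ H, x ∈ centralizer (P : Set G) → x = 1
  pH : ¬ p ∣ Nat.card H
  idx : ∀ t ∈ σ, t ≠ p → ¬ t ∣ H.index

namespace Act

variable {p : ℕ} {P H : Subgroup G}

theorem notdvd (A : Act G σ p P H) {t : ℕ} (ht : t ∈ σ) (htp : t ≠ p) : ¬ t ∣ Nat.card P :=
  not_dvd_pgroup (A.four.prime p A.hp) (A.four.prime t ht) htp A.Pp

theorem cop (A : Act G σ p P H) {K : Subgroup G} (hK : K ≤ H) : (Nat.card P).Coprime (Nat.card K) :=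
  coprime_pgroup (A.four.prime p A.hp) A.Pp (not_dvd_of_le hK A.pH)

theorem big (A : Act G σ p P H) {t : ℕ} (ht : t ∈ σ) (htp : t ≠ p) : ¬ Rk1 t H :=
  A.four.not_rk1 ht (A.idx t ht htp)

/-- the basic Frobenius argument on `P`. -/
theorem frobP (A : Act G σ p P H) {t : ℕ} (ht : t ∈ σ) (htp : t ≠ p) {U : Subgroup G} (hU : U ≤ H) {x : G}
    (hx : orderOf x = t) (hxH : x ∈ H) (hxU : x ∈ normalizer (U : Set G))
    (hfix : U ⊓ centralizer ({x} : Set G) = ⊥) (h : P ⊓ centralizer ({x} : Set G) = ⊥) : U = ⊥ := by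
  have h1 := frob1 (A.four.prime t ht) hx hxU hfix (hU.trans A.HP) (A.HP hxH) (A.four.solv P) (A.cop hU)
    (A.notdvd ht htp) h
  rw [eq_bot_iff]
  intro u hu
  exact Subgroup.mem_bot.2 (A.faith u (hU hu) (h1 hu))

/-- no element of order `xy` has fixed points on `P`. -/
theorem noP (A : Act G σ p P H) {x y : ℕ} (hx : x ∈ σ) (hy : y ∈ σ) (hxp : x ≠ p) (hyp : y ≠ p) (hxy : x ≠ y)
    {a b u : G} (ha : PEl x a) (hb : PEl y b) (hab : Commute a b) (hu : u ∈ P) (hau : Commute a u)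
    (hbu : Commute b u) : u = 1 := by
  by_contra hu1
  exact A.four.comm3g A.hp hx hy hxp.symm hxy hyp.symm (PEl.of_mem A.Pp hu hu1) ha hb hau.symm hbu.symm hab

/-- an edge of `H`. -/
theorem edge (A : Act G σ p P H) (hHall : ∀ K : Subgroup G, (¬ p ∣ Nat.card K) → ∃ g : G, K ≤ MulAut.conj g • H)
    {x y : ℕ} (hx : x ∈ σ) (hy : y ∈ σ) (hxp : x ≠ p) (hyp : y ≠ p) (hxy : x ≠ y) :
    ∃ a ∈ H, ∃ b ∈ H, orderOf a = x ∧ orderOf b = y ∧ Commute a b := by
  obtain ⟨a, b, ha, hb, hab⟩ := A.four.edge2 hx hy hxy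
  have hn : zpowers a ≤ normalizer (zpowers b : Set G) :=
    norm_zpowers_of_commute (x := b) (A := zpowers a) fun c hc => (commute_of_mem_zpowers hc hab).symm
  have hcard := BG3.card_sup_dvd_mul' hn
  rw [Nat.card_zpowers, Nat.card_zpowers, ha, hb] at hcard
  obtain ⟨g, hg⟩ := hHall (zpowers a ⊔ zpowers b) (by
    intro h
    have hpp := A.four.prime p A.hp
    rcases (hpp.dvd_mul).1 (h.trans hcard) with h1 | h1
    · exact hxp ((Nat.prime_dvd_prime_iff_eq hpp (A.four.prime x hx)).1 h1).symm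
    · exact hyp ((Nat.prime_dvd_prime_iff_eq hpp (A.four.prime y hy)).1 h1).symm)
  have hmem : ∀ z ∈ zpowers a ⊔ zpowers b, g⁻¹ * z * g ∈ H := by
    intro z hz
    obtain ⟨w, hw, hwz⟩ := hg hz
    have : z = g * w * g⁻¹ := hwz.symm
    rw [this]
    have e : g⁻¹ * (g * w * g⁻¹) * g = w := by group
    rw [e]; exact hw
  have hco : ∀ y : G, orderOf (g⁻¹ * y * g) = orderOf y := fun y => by
    have := orderOf_injective (MulAut.conj g⁻¹).toMonoidHom (MulAut.conj g⁻¹).injective y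
    have e : (MulAut.conj g⁻¹).toMonoidHom y = g⁻¹ * y * g := by
      show g⁻¹ * y * g⁻¹⁻¹ = _
      rw [inv_inv]
    rwa [e] at this
  refine ⟨_, hmem a (mem_sup_left (mem_zpowers a)), _, hmem b (mem_sup_right (mem_zpowers b)), by rw [hco, ha],
    by rw [hco, hb], ?_⟩
  show g⁻¹ * a * g * (g⁻¹ * b * g) = g⁻¹ * b * g * (g⁻¹ * a * g)
  calc g⁻¹ * a * g * (g⁻¹ * b * g) = g⁻¹ * (a * b) * g := by group
    _ = g⁻¹ * (b * a) * g := by rw [hab.eq]
    _ = g⁻¹ * b * g * (g⁻¹ * a * g) := by group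

/-- Sub-lemma X. -/
theorem subX (A : Act G σ p P H) {q r s : ℕ} (hq : q ∈ σ) (hr : r ∈ σ) (hs : s ∈ σ) (hqp : q ≠ p) (hrp : r ≠ p)
    (hsp : s ≠ p) (hqr : q ≠ r) (hqs : q ≠ s) (hrs : r ≠ s) {Q : Subgroup G} (hQq : IsPGroup q Q) (hQH : Q ≤ H)
    (hHQ : H ≤ normalizer (Q : Set G)) {b c : G} (hb : b ∈ H) (hc : c ∈ H) (hbo : orderOf b = r)
    (hco : orderOf c = s) (hbc : Commute b c) (hne : Q ⊓ centralizer ({c} : Set G) ≠ ⊥) :
    P ⊓ centralizer ({c} : Set G) = ⊥ := by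
  by_contra hP
  have hrP := A.four.prime r hr
  have hbP : PEl r b := PEl.of_order hrP hbo
  have hcP : PEl s c := PEl.of_order (A.four.prime s hs) hco
  set V := P ⊓ centralizer ({c} : Set G) with hV
  set B := Q ⊓ centralizer ({c} : Set G) with hB
  have hzb : zpowers b ≤ H := by rw [zpowers_le]; exact hb
  have hzc : ∀ a ∈ zpowers b, Commute c a := fun a ha => (commute_of_mem_zpowers ha hbc).symm
  have hBc : ∀ a ∈ B, Commute c a := fun a ha => mem_cent_iff.1 ha.2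
  have hBH : B ≤ H := inf_le_left.trans hQH
  have h1 : V ⊓ centralizer (zpowers b : Set G) = ⊥ := by
    rw [cent_zpowers]
    exact fix_bot fun u hu hbu => A.noP hr hs hrp hsp hrs hbP hcP hbc hu.1 hbu (mem_cent_iff.1 hu.2)
  have h2 : B ⊓ centralizer (zpowers b : Set G) = ⊥ := by
    rw [cent_zpowers]
    refine fix_bot fun u hu hbu => ?_
    by_contra hu1
    exact A.four.comm3g hq hr hs hqr hrs hqs (PEl.of_mem hQq hu.1 hu1) hbP hcP hbu.symm (hBc u hu).symm hbc
  have hcop : (Nat.card B).Coprime (Nat.card V) :=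
    (Nat.Coprime.coprime_dvd_left (card_dvd_of_le inf_le_left) (A.cop hBH)).symm
  have hBV := BG.P15.le_centralizer_of_fpf hrP (by rw [Nat.card_zpowers, hbo])
    (norm_fix (hzb.trans A.HP) hzc) (norm_fix (hzb.trans hHQ) hzc)
    (norm_fix (hBH.trans A.HP) hBc) (A.four.solv _) hcop h1 h2
  obtain ⟨u, hu, hu1⟩ := exists_ne_one_of_ne_bot hP
  obtain ⟨v, hv, hv1⟩ := exists_ne_one_of_ne_bot hne
  have huv : Commute u v := mem_centralizer_iff.1 (hBV hv) u hu
  exact hu1 (A.noP hq hs hqp hsp hqs (PEl.of_mem hQq hv.1 hv1) hcP (hBc v hv).symm hu.1 huv.symm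
    (mem_cent_iff.1 hu.2))

end Act

theorem core_bot {K : Subgroup G} {t : ℕ} (ht : t.Prime) (h : ¬ t ∣ Nat.card K) : BG.pCoreOf t K = ⊥ := by
  haveI : Fact t.Prime := ⟨ht⟩
  by_contra hne
  haveI : Nontrivial (BG.pCoreOf t K) := (Subgroup.nontrivial_iff_ne_bot _).2 hne
  obtain ⟨n, hn0, hn⟩ := (BG.pCoreOf_isPGroup t K).nontrivial_iff_card.1 inferInstance
  exact h ((dvd_pow_self t hn0.ne').trans (hn ▸ card_dvd_of_le (BG.pCoreOf_le t K)))

theorem fitting_one {K : Subgroup G} {s : ℕ} (hs : s.Prime)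
    (h : ∀ t : ℕ, t.Prime → t ≠ s → BG.pCoreOf t K = ⊥) : fittingOf K = BG.pCoreOf s K := by
  rw [BG3.fittingOf_eq_sup s hs K]
  have : BG3.fitCoOf s K = ⊥ := by
    rw [eq_bot_iff, BG3.fitCoOf]
    exact iSup_le fun r => by rw [h r.1 r.2.1 r.2.2]
  rw [this, sup_bot_eq]

theorem commute_of_two {r : ℕ} (hr : r.Prime) {x w : G} (hx : orderOf x = r) (hw : orderOf w = 2)
    (hn : x ∈ normalizer (zpowers w : Set G)) : Commute x w := by
  by_contra hnc
  have h1 := dvd_pred hr Nat.prime_two hx hw hn hnc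
  norm_num at h1
  exact hr.one_lt.ne' h1

theorem commute_of_same {r : ℕ} (hr : r.Prime) {x w : G} (hx : orderOf x = r) (hw : orderOf w = r)
    (hn : x ∈ normalizer (zpowers w : Set G)) : Commute x w := by
  by_contra hnc
  have h1 := Nat.le_of_dvd (by have := hr.one_lt; omega) (dvd_pred hr hr hx hw hn hnc)
  have := hr.one_lt
  omega

theorem fix_zpowers_bot {r s : ℕ} (hs : s.Prime) {x c : G} (hc : orderOf c = s) (hnc : ¬ Commute x c) :
    zpowers c ⊓ centralizer ({x} : Set G) = ⊥ := by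
  refine fix_bot fun u hu hxu => ?_
  by_contra hu1
  exact hnc ((commute_of_mem_zpowers (zpowers_eq_of_prime hs hc hu hu1) hxu.symm).symm)

namespace Act

variable {p : ℕ} {P H : Subgroup G}

theorem main1 (A : Act G σ p P H) {q r s : ℕ} (hq : q ∈ σ) (hr : r ∈ σ) (hs : s ∈ σ) (hqp : q ≠ p) (hrp : r ≠ p)
    (hsp : s ≠ p) (hqr : q ≠ r) (hqs : q ≠ s) (hrs : r ≠ s) {Q : Subgroup G} (hQq : IsPGroup q Q) (hQH : Q ≤ H)
    (hHQ : H ≤ normalizer (Q : Set G)) (hcent : ∀ x ∈ H, x ∈ centralizer (Q : Set G) → x ∈ Q)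
    {b c : G} (hb : b ∈ H) (hc : c ∈ H) (hbo : orderOf b = r)
    (hco : orderOf c = s) (hbc : Commute b c) (hne : Q ⊓ centralizer ({c} : Set G) ≠ ⊥) : False := by
  have hqP := A.four.prime q hq
  have hrP := A.four.prime r hr
  have hsP := A.four.prime s hs
  have hbP : PEl r b := PEl.of_order hrP hbo
  have hcP : PEl s c := PEl.of_order hsP hco
  have hPc := A.subX hq hr hs hqp hrp hsp hqr hqs hrs hQq hQH hHQ hb hc hbo hco hbc hne
  have hQ1 : Q ≠ ⊥ := by
    rintro rfl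
    exact hne (by rw [bot_inf_eq])
  have hsQ : ¬ s ∣ Nat.card Q := not_dvd_pgroup hqP hsP hqs.symm hQq
  by_cases hq2 : q = 2
  swap
  · have hodd : Odd (Nat.card Q) := by
      haveI : Fact q.Prime := ⟨hqP⟩
      obtain ⟨n, hn⟩ := IsPGroup.iff_card.1 hQq
      rw [hn]
      exact (hqP.odd_of_ne_two hq2).pow
    have h1 := hh hsP hco (A.four.solv Q) hodd (hHQ hc) (hQH.trans A.HP) (A.HP hc) (A.four.solv P)
      (A.cop hQH).symm hsQ (A.notdvd hs hsp) hPc
    have h2 : c ∈ centralizer (Q : Set G) := by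
      rw [mem_centralizer_iff]
      intro k hk
      have h3 : ⁅k, c⁆ = 1 := by
        refine A.faith _ ?_ (h1 k hk)
        rw [commutatorElement_def]
        exact H.mul_mem (H.mul_mem (H.mul_mem (hQH hk) hc) (H.inv_mem (hQH hk))) (H.inv_mem hc)
      exact commutatorElement_eq_one_iff_commute.1 h3
    apply hsQ
    rw [← hco]
    have := orderOf_dvd_natCard (⟨c, hcent c hc h2⟩ : Q)
    rwa [← Subgroup.orderOf_coe] at this
  subst hq2
  -- the centre
  set Z : Subgroup G := Q ⊓ centralizer (Q : Set G) with hZdef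
  have hZQ : Z ≤ Q := inf_le_left
  have hZH : Z ≤ H := hZQ.trans hQH
  have hZab : IsMulCommutative Z := by
    constructor; constructor
    rintro ⟨x, hx⟩ ⟨y, hy⟩
    apply Subtype.ext
    exact (mem_centralizer_iff.1 hx.2 y hy.1).symm
  have hHZ : H ≤ normalizer (Z : Set G) := norm_inf hHQ (norm_cent hHQ)
  have hZ2 : IsPGroup 2 Z := hQq.to_le hZQ
  have hZ1 : Z ≠ ⊥ := by
    obtain ⟨z, hz, hzo, hzc⟩ := exists_central hqP hQq hQ1
    intro h
    have hzZ : z ∈ Z := ⟨hz, mem_centralizer_iff.2 fun y hy => (hzc y hy).symm⟩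
    rw [h, Subgroup.mem_bot] at hzZ
    exact ne_one_of_order hqP hzo hzZ
  have hzcH : zpowers c ≤ H := by rw [zpowers_le]; exact hc
  have hcZ : ∀ z ∈ Z, Commute c z := by
    have hW : (⁅Z, zpowers c⁆ : Subgroup G) = ⊥ := by
      have hWle : (⁅Z, zpowers c⁆ : Subgroup G) ≤ Z := le_normalizer_iff_commutator_le_left.1 (hzcH.trans hHZ)
      refine A.frobP hs hsp (hWle.trans hZH) hco hc (normalizer_commutator_ge_right Z _ (mem_zpowers c)) ?_ hPc
      rw [← cent_zpowers]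
      refine ab_fix hZab (hzcH.trans hHZ) ?_
      rw [Nat.card_zpowers, hco]
      exact (Nat.Prime.coprime_iff_not_dvd hsP).2 (not_dvd_of_le hZQ hsQ)
    intro z hz
    have := commutator_eq_bot_iff_le_centralizer.1 hW hz
    rw [cent_zpowers] at this
    exact mem_cent_iff.1 this
  have hball : ∀ b' ∈ H, orderOf b' = r → Commute b' c → Q ⊓ centralizer ({b'} : Set G) = ⊥ := by
    intro b' hb' hbo' hbc'
    have hz : Z ⊓ centralizer ({b'} : Set G) = ⊥ := by
      refine fix_bot fun u hu hbu => ?_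
      by_contra hu1
      exact A.four.comm3g hq hr hs hqr hrs hqs (PEl.of_mem hQq hu.1 hu1) (PEl.of_order hrP hbo') hcP hbu.symm
        (hcZ u hu).symm hbc'
    have hPb : P ⊓ centralizer ({b'} : Set G) ≠ ⊥ := fun h =>
      hZ1 (A.frobP hr hrp hZH hbo' hb' (hHZ hb') hz h)
    by_contra hne'
    exact hPb (A.subX hq hs hr hqp hsp hrp hqs hqr hrs.symm hQq hQH hHQ hc hb' hco hbo' hbc'.symm hne')
  have hQb := hball b hb hbo hbc
  have hU : ∀ t ∈ σ, t ≠ p → t ≠ 2 → ∀ y ∈ H, orderOf y = t → (∀ z ∈ Z, Commute y z) →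
      P ⊓ centralizer ({y} : Set G) = ⊥ := by
    intro t ht htp ht2 y hy hyo hyZ
    by_contra hV
    have htP := A.four.prime t ht
    have hZV : Z ≤ normalizer ((P ⊓ centralizer ({y} : Set G) : Subgroup G) : Set G) :=
      norm_fix (hZH.trans A.HP) hyZ
    have hrk : Rk1 2 Z := rk1_of_fpf Nat.prime_two hZV hV
      (not_dvd_of_le inf_le_left (A.notdvd hq hqp)) (fun e he heo => fix_bot fun u hu heu =>
        A.noP hq ht hqp htp ht2.symm (PEl.of_order Nat.prime_two heo) (PEl.of_order htP hyo) (hyZ e he).symm hu.1 heu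
          (mem_cent_iff.1 hu.2))
    obtain ⟨w, hw, hwo, -, huw⟩ := exists_unique_sub Nat.prime_two hZ2 hZ1 hrk
    have h1 := commute_of_two hrP hbo hwo (normalizes_zpowers hw hwo huw (hHZ hb))
    exact ne_one_of_order Nat.prime_two hwo (of_fix_bot hQb (hZQ hw) h1)
  -- the Hall subgroup
  have hzbH : zpowers b ≤ H := by rw [zpowers_le]; exact hb
  have hzbc : zpowers b ≤ normalizer (zpowers c : Set G) :=
    norm_zpowers_of_commute fun a ha => (commute_of_mem_zpowers ha hbc).symm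
  obtain ⟨Y, hY, hKY⟩ := BG.exists_isPiHallOf_ge (π := {r, s}) (M := H) (A.four.solv H)
    (K := zpowers b ⊔ zpowers c) (sup_le hzbH hzcH) (by
      intro t ht htd
      have hcard := BG3.card_sup_dvd_mul' hzbc
      rw [Nat.card_zpowers, Nat.card_zpowers, hbo, hco] at hcard
      rcases (ht.dvd_mul).1 (htd.trans hcard) with h1 | h1
      · exact Or.inl ((Nat.prime_dvd_prime_iff_eq ht hrP).1 h1)
      · exact Or.inr ((Nat.prime_dvd_prime_iff_eq ht hsP).1 h1))
  have hYH : Y ≤ H := hY.1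
  have hbY : b ∈ Y := hKY (mem_sup_left (mem_zpowers b))
  have hcY : c ∈ Y := hKY (mem_sup_right (mem_zpowers c))
  set Y0 : Subgroup G := Y ⊓ centralizer (Z : Set G) with hY0
  have hY0n : Y ≤ normalizer (Y0 : Set G) := norm_inf le_normalizer (norm_cent (hYH.trans hHZ))
  have hY0H : Y0 ≤ H := inf_le_left.trans hYH
  have hY0c : ∀ y ∈ Y0, ∀ z ∈ Z, Commute y z := fun y hy z hz => (mem_centralizer_iff.1 hy.2 z hz).symm
  have hcY0 : c ∈ Y0 := ⟨hcY, mem_centralizer_iff.2 fun z hz => (hcZ z hz).symm⟩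
  have hrk : ∀ t ∈ σ, t ≠ p → t ≠ 2 → Rk1 t Y0 := fun t ht htp ht2 =>
    rk1_of_fpf (A.four.prime t ht) (hY0H.trans A.HP) A.P1 (A.notdvd ht htp) fun e he heo =>
      hU t ht htp ht2 e (hY0H he) heo (hY0c e he)
  obtain ⟨z0, hz0, hz01⟩ := exists_ne_one_of_ne_bot hZ1
  have hcore_r : BG.pCoreOf r Y0 = ⊥ := by
    by_contra hT1
    obtain ⟨x, hx, hxo, -, hux⟩ := exists_unique_sub hrP (BG.pCoreOf_isPGroup r Y0) hT1
      ((hrk r hr hrp hqr.symm).mono (BG.pCoreOf_le r Y0))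
    have hxY0 : x ∈ Y0 := BG.pCoreOf_le r Y0 hx
    have hcn := normalizes_zpowers hx hxo hux (BG.le_normalizer_pCoreOf r Y0 hcY0)
    have hncx : ¬ Commute c x := fun h =>
      A.four.comm3g hq hr hs hqr hrs hqs (PEl.of_mem hZ2 hz0 hz01) (PEl.of_order hrP hxo) hcP
        (hY0c x hxY0 z0 hz0).symm (hcZ z0 hz0).symm h.symm
    have h1 := A.frobP hs hsp (U := zpowers x) (by rw [zpowers_le]; exact hY0H hxY0) hco hc hcn
      (fix_zpowers_bot (r := r) hrP hxo hncx) hPc
    rw [zpowers_eq_bot] at h1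
    exact ne_one_of_order hrP hxo h1
  have hcore : ∀ t : ℕ, t.Prime → t ≠ s → BG.pCoreOf t Y0 = ⊥ := by
    intro t ht hts
    by_cases htr : t = r
    · rw [htr]; exact hcore_r
    · apply core_bot ht
      intro h
      rcases hY.2.1 t ht (h.trans (card_dvd_of_le inf_le_left)) with h1 | h1
      · exact htr h1
      · exact hts h1
  have hT1 : BG.pCoreOf s Y0 ≠ ⊥ := by
    rw [← fitting_one hsP hcore]
    apply BG.fittingOf_ne_bot (A.four.solv Y0)
    intro h
    rw [h, Subgroup.mem_bot] at hcY0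
    exact ne_one_of_order hsP hco hcY0
  obtain ⟨x, hx, hxo, -, hux⟩ := exists_unique_sub hsP (BG.pCoreOf_isPGroup s Y0) hT1
      ((hrk s hs hsp hqs.symm).mono (BG.pCoreOf_le s Y0))
  have hxY0 : x ∈ Y0 := BG.pCoreOf_le s Y0 hx
  have hcx : Commute c x := commute_of_same hsP hco hxo
    (normalizes_zpowers hx hxo hux (BG.le_normalizer_pCoreOf s Y0 hcY0))
  have hcx' : c ∈ zpowers x := hrk s hs hsp hqs.symm x hxY0 c hcY0 hxo hco hcx.symm
  have hzeq : zpowers c = zpowers x := zpowers_eq_of_order hxo hco hcx'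
  have hYc : ∀ y ∈ Y, y ∈ normalizer (zpowers c : Set G) := by
    intro y hy
    rw [hzeq]
    exact normalizes_zpowers hx hxo hux
      (BG.normalizer_le_normalizer_pCoreOf s Y0 (hY0n hy))
  -- a partner of `b`
  obtain ⟨T2, hT2, hbT2⟩ := BG.exists_isPiHallOf_ge (π := {r}) (M := Y) (A.four.solv Y)
    (K := zpowers b) (by rw [zpowers_le]; exact hbY) (by
      intro t ht htd
      rw [Nat.card_zpowers, hbo] at htd
      exact (Nat.prime_dvd_prime_iff_eq ht hrP).1 htd)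
  have hT2r : IsPGroup r T2 := BG.P09.isPGroup_of_isPiHallOf (hp := ⟨hrP⟩) hT2
  have hT2i : ¬ r ∣ T2.index := by
    rw [← relIndex_mul_index hT2.1, ← relIndex_mul_index hYH]
    intro h
    rcases (hrP.dvd_mul).1 h with h1 | h1
    · exact hT2.2.2 r hrP rfl h1
    · rcases (hrP.dvd_mul).1 h1 with h2 | h2
      · exact hY.2.2 r hrP (Or.inl rfl) h2
      · exact A.idx r hr hrp h2
  obtain ⟨u, hu, huo, hbu, hub⟩ := partner hrP hT2r (A.four.not_rk1 hr hT2i) (hbT2 (mem_zpowers b)) hbo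
  set D : Subgroup G := zpowers b ⊔ zpowers u with hD
  have hDT : D ≤ T2 := sup_le hbT2 (by rw [zpowers_le]; exact hu)
  have hDY : D ≤ Y := hDT.trans hT2.1
  have hDb : ∀ e ∈ D, Commute b e := by
    have : D ≤ centralizer ({b} : Set G) := by
      refine sup_le ?_ ?_
      · rw [zpowers_le]; exact mem_cent_iff.2 (Commute.refl b)
      · rw [zpowers_le]; exact mem_cent_iff.2 hbu
    exact fun e he => mem_cent_iff.1 (this he)
  have hDrk : ¬ Rk1 r D := fun h =>
    hub (h b (mem_sup_left (mem_zpowers b)) u (mem_sup_right (mem_zpowers u)) hbo huo hbu)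
  obtain ⟨e, he, heo, hQe⟩ := exists_fix hrP hDrk (hDY.trans (hYH.trans hHQ)) hQ1
    (not_dvd_pgroup hqP hrP hqr.symm hQq)
  have heY := hDY he
  have heH := hYH heY
  have hec : ¬ Commute e c := fun h => hQe (hball e heH heo h)
  have hPe : P ⊓ centralizer ({e} : Set G) ≠ ⊥ := by
    intro h
    have h1 := A.frobP hr hrp (U := zpowers c) hzcH heo heH (hYc e heY) (fix_zpowers_bot (r := r) hsP hco hec) h
    rw [zpowers_eq_bot] at h1
    exact ne_one_of_order hsP hco h1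
  have hAc : ∀ a ∈ Q ⊓ centralizer ({e} : Set G), Commute e a := fun a ha => mem_cent_iff.1 ha.2
  have hrkA : Rk1 2 (Q ⊓ centralizer ({e} : Set G)) := rk1_of_fpf Nat.prime_two
    (norm_fix (M := P) (x := e) (inf_le_left.trans (hQH.trans A.HP)) hAc) hPe
    (not_dvd_of_le inf_le_left (A.notdvd hq hqp)) (fun a ha hao => fix_bot fun u hu hau =>
      A.noP hq hr hqp hrp hqr (PEl.of_order Nat.prime_two hao) (PEl.of_order hrP heo) (hAc a ha).symm hu.1 hau
        (mem_cent_iff.1 hu.2))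
  obtain ⟨w, hw, hwo, -, huw⟩ := exists_unique_sub Nat.prime_two
    (hQq.to_le inf_le_left : IsPGroup 2 (Q ⊓ centralizer ({e} : Set G) : Subgroup G)) hQe hrkA
  have hbn : b ∈ normalizer ((Q ⊓ centralizer ({e} : Set G) : Subgroup G) : Set G) :=
    norm_fix (A := zpowers b) (hzbH.trans hHQ)
      (fun a ha => (commute_of_mem_zpowers ha (hDb e he)).symm) (mem_zpowers b)
  have h1 := commute_of_two hrP hbo hwo (normalizes_zpowers hw hwo huw hbn)
  exact ne_one_of_order Nat.prime_two hwo (of_fix_bot hQb hw.1 h1)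

end Act

end Cfsg.Agent.H24J
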