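import Cfsg.Agent.H24J.A1

set_option autoImplicit false

/-! Four primes pairwise joined in a solvable group: cases A1, A2. (owner: helper24) -/

namespace Cfsg.Agent.H24J

open Subgroup Cfsg
open scoped Pointwise commutatorElement

universe u
variable {G : Type u} [Group G] [Finite G] {σ : Finset ℕ}

omit [Finite G] in
theorem Four.others (h : Four G σ) {p q : ℕ} (hp : p ∈ σ) (hq : q ∈ σ) (hqp : q ≠ p) :
    ∃ r ∈ σ, ∃ s ∈ σ, r ≠ p ∧ r ≠ q ∧ s ≠ p ∧ s ≠ q ∧ r ≠ s ∧ ∀ t ∈ σ, t = p ∨ t = q ∨ t = r ∨ t = s := by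
  classical
  have h1 : ((σ.erase p).erase q).card = 2 := by
    rw [Finset.card_erase_of_mem (Finset.mem_erase.2 ⟨hqp, hq⟩), Finset.card_erase_of_mem hp, h.card]
  obtain ⟨r, s, hrs, hrs'⟩ := Finset.card_eq_two.1 h1
  have hr : r ∈ (σ.erase p).erase q := by rw [hrs']; simp
  have hs : s ∈ (σ.erase p).erase q := by rw [hrs']; simp
  rw [Finset.mem_erase, Finset.mem_erase] at hr hs
  refine ⟨r, hr.2.2, s, hs.2.2, hr.2.1, hr.1, hs.2.1, hs.1, hrs, fun t ht => ?_⟩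
  by_cases htp : t = p
  · exact Or.inl htp
  by_cases htq : t = q
  · exact Or.inr (Or.inl htq)
  have : t ∈ (σ.erase p).erase q := Finset.mem_erase.2 ⟨htq, Finset.mem_erase.2 ⟨htp, ht⟩⟩
  rw [hrs'] at this
  simp only [Finset.mem_insert, Finset.mem_singleton] at this
  exact Or.inr (Or.inr this)

omit [Finite G] in
theorem Four.fourth (h : Four G σ) {p q s : ℕ} (hp : p ∈ σ) (hq : q ∈ σ) (hs : s ∈ σ) (hqp : q ≠ p)
    (hsp : s ≠ p) (hqs : q ≠ s) : ∃ r ∈ σ, r ≠ p ∧ r ≠ q ∧ r ≠ s ∧ ∀ t ∈ σ, t = p ∨ t = q ∨ t = r ∨ t = s := by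
  obtain ⟨a, ha, b, hb, hap, haq, hbp, hbq, hab, hall⟩ := h.others hp hq hqp
  rcases hall s hs with h1 | h1 | h1 | h1
  · exact absurd h1 hsp
  · exact absurd h1 hqs.symm
  · subst h1
    exact ⟨b, hb, hbp, hbq, hab.symm, fun t ht => by have := hall t ht; tauto⟩
  · subst h1
    exact ⟨a, ha, hap, haq, hab, fun t ht => by have := hall t ht; tauto⟩

theorem core_commute {K : Subgroup G} {q s : ℕ} (hq : q.Prime) (hs : s.Prime) (hqs : q ≠ s) {x y : G}
    (hx : x ∈ BG.pCoreOf q K) (hy : y ∈ BG.pCoreOf s K) : Commute x y := by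
  have h1 : (BG.pCoreOf q K) ⊓ (BG.pCoreOf s K) = ⊥ := by
    apply Cop.inf_eq_bot_of_coprime
    exact coprime_pgroup hq (BG.pCoreOf_isPGroup q K) (not_dvd_pgroup hs hq hqs (BG.pCoreOf_isPGroup s K))
  have h2 : ⁅x, y⁆ ∈ (BG.pCoreOf q K) ⊓ (BG.pCoreOf s K) := by
    rw [commutatorElement_def]
    constructor
    · have h3 := (mem_normalizer_iff.1 (BG.le_normalizer_pCoreOf q K (BG.pCoreOf_le s K hy)) x⁻¹).1
        ((BG.pCoreOf q K).inv_mem hx)
      have := (BG.pCoreOf q K).mul_mem hx h3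
      rwa [show x * (y * x⁻¹ * y⁻¹) = x * y * x⁻¹ * y⁻¹ by group] at this
    · have h3 := (mem_normalizer_iff.1 (BG.le_normalizer_pCoreOf s K (BG.pCoreOf_le q K hx)) y).1 hy
      exact (BG.pCoreOf s K).mul_mem h3 ((BG.pCoreOf s K).inv_mem hy)
  rw [h1, Subgroup.mem_bot] at h2
  exact commutatorElement_eq_one_iff_commute.1 h2

theorem fitting_two {K : Subgroup G} {q s : ℕ} (hq : q.Prime)
    (h : ∀ t : ℕ, t.Prime → t ≠ q → t ≠ s → BG.pCoreOf t K = ⊥) :
    fittingOf K ≤ BG.pCoreOf q K ⊔ BG.pCoreOf s K := by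
  rw [BG3.fittingOf_eq_sup q hq K]
  refine sup_le_sup_left ?_ _
  rw [BG3.fitCoOf]
  refine iSup_le fun r => ?_
  by_cases hrs : (r : ℕ) = s
  · rw [hrs]
  · rw [h r.1 r.2.1 r.2.2 hrs]; exact bot_le

omit [Finite G] in
/-- the `s`-elements of `Q × S`. -/
theorem mem_of_pow {Q S : Subgroup G} {q s : ℕ} (hq : q.Prime) (hs : s.Prime) (hqs : q ≠ s) (hQ : IsPGroup q Q)
    (hQS : ∀ x ∈ Q, ∀ y ∈ S, Commute x y) (hS : IsPGroup s S) {x : G} (hx : x ∈ Q ⊔ S) {k : ℕ}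
    (hk : x ^ s ^ k = 1) : x ∈ S := by
  have hn : Q ≤ normalizer (S : Set G) :=
    le_trans (fun a ha => mem_centralizer_iff.2 fun y hy => (hQS a ha y hy).symm.eq) (centralizer_le_normalizer _)
  obtain ⟨a, ha, b, hb, rfl⟩ := (mem_sup_norm hn).1 hx
  have hc := hQS a ha b hb
  obtain ⟨l, hl⟩ := hS ⟨b, hb⟩
  have hl' : b ^ s ^ l = 1 := congrArg Subtype.val hl
  obtain ⟨m, hm⟩ := hQ ⟨a, ha⟩
  have hm' : a ^ q ^ m = 1 := congrArg Subtype.val hm
  have h1 : a ^ (s ^ k * s ^ l) = 1 := by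
    have h2 : (a * b) ^ (s ^ k * s ^ l) = 1 := by rw [pow_mul, hk, one_pow]
    rw [hc.mul_pow, mul_comm (s ^ k), pow_mul b, hl', one_pow, mul_one] at h2
    rw [mul_comm]; exact h2
  have h3 : orderOf a ∣ 1 := by
    have h4 : (q ^ m).Coprime (s ^ k * s ^ l) := by
      rw [← pow_add]
      exact Nat.Coprime.pow _ _ ((Nat.coprime_primes hq hs).2 hqs)
    rw [← h4]
    exact Nat.dvd_gcd (orderOf_dvd_of_pow_eq_one hm') (orderOf_dvd_of_pow_eq_one h1)
  rw [Nat.dvd_one, orderOf_eq_one_iff] at h3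
  rw [h3, one_mul]; exact hb

theorem odd_card_pgroup {s : ℕ} (hs : s.Prime) (hs2 : s ≠ 2) {K : Subgroup G} (hK : IsPGroup s K) :
    Odd (Nat.card K) := by
  haveI : Fact s.Prime := ⟨hs⟩
  obtain ⟨n, hn⟩ := IsPGroup.iff_card.1 hK
  rw [hn]
  exact (hs.odd_of_ne_two hs2).pow

namespace Act

variable {p : ℕ} {P H : Subgroup G}

theorem A1 (A : Act G σ p P H) (hHall : ∀ K : Subgroup G, (¬ p ∣ Nat.card K) → ∃ g : G, K ≤ MulAut.conj g • H)
    {q : ℕ} (hq : q ∈ σ) (hqp : q ≠ p) {Q : Subgroup G} (hQq : IsPGroup q Q) (hQH : Q ≤ H)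
    (hHQ : H ≤ normalizer (Q : Set G)) (hcent : ∀ x ∈ H, x ∈ centralizer (Q : Set G) → x ∈ Q) : False := by
  obtain ⟨r, hr, s, hs, hrp, hrq, hsp, hsq, hrs, -⟩ := A.four.others A.hp hq hqp
  obtain ⟨b, hb, c, hc, hbo, hco, hbc⟩ := A.edge hHall hr hs hrp hsp hrs
  have hrP := A.four.prime r hr
  have hsP := A.four.prime s hs
  by_cases h1 : Q ⊓ centralizer ({c} : Set G) = ⊥
  swap
  · exact A.main1 hq hr hs hqp hrp hsp hrq.symm hsq.symm hrs hQq hQH hHQ hcent hb hc hbo hco hbc h1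
  by_cases h2 : Q ⊓ centralizer ({b} : Set G) = ⊥
  swap
  · exact A.main1 hq hs hr hqp hsp hrp hsq.symm hrq.symm hrs.symm hQq hQH hHQ hcent hc hb hco hbo hbc.symm h2
  have hn : zpowers b ≤ normalizer (zpowers c : Set G) :=
    norm_zpowers_of_commute fun a ha => (commute_of_mem_zpowers ha hbc).symm
  have hQ1 : Q ≠ ⊥ := by
    intro h
    have h3 : c ∈ Q := hcent c hc (by rw [h, mem_centralizer_iff]; intro y hy; rw [Subgroup.mem_bot.1 hy, one_mul, mul_one])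
    rw [h, Subgroup.mem_bot] at h3
    exact ne_one_of_order hsP hco h3
  set E : Subgroup G := zpowers b ⊔ zpowers c with hE
  have hEH : E ≤ H := sup_le (by rw [zpowers_le]; exact hb) (by rw [zpowers_le]; exact hc)
  have hE1 : E ≠ ⊥ := by
    intro h
    have h3 : c ∈ E := mem_sup_right (mem_zpowers c)
    rw [h, Subgroup.mem_bot] at h3
    exact ne_one_of_order hsP hco h3
  have hQE := frob (U := Q) (E := E) (N := P) hE1 (hEH.trans hHQ) (by
    intro e he he1 u hu heu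
    obtain ⟨y, hy, z, hz, hyz⟩ := (mem_sup_norm hn).1 he
    have hyz' : Commute y z := commute_of_mem_zpowers hy (commute_of_mem_zpowers hz hbc.symm).symm
    have hzs : z ^ s = 1 := by
      obtain ⟨n, rfl⟩ := mem_zpowers_iff.1 hz
      rw [← zpow_natCast, ← zpow_mul, mul_comm, zpow_mul, zpow_natCast, ← hco, pow_orderOf_eq_one, one_zpow]
    have hyr : y ^ r = 1 := by
      obtain ⟨n, rfl⟩ := mem_zpowers_iff.1 hy
      rw [← zpow_natCast, ← zpow_mul, mul_comm, zpow_mul, zpow_natCast, ← hbo, pow_orderOf_eq_one, one_zpow]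
    by_cases hys : y ^ s = 1
    · have hy1 : y = 1 := by
        rw [← orderOf_eq_one_iff, ← Nat.dvd_one, ← (Nat.coprime_primes hrP hsP).2 hrs]
        exact Nat.dvd_gcd (orderOf_dvd_of_pow_eq_one hyr) (orderOf_dvd_of_pow_eq_one hys)
      rw [hy1, one_mul] at hyz
      subst hyz
      exact of_fix_bot h1 hu (commute_of_mem_zpowers (zpowers_eq_of_prime hsP hco hz he1) heu)
    · have hes : e ^ s = y ^ s := by rw [← hyz, hyz'.mul_pow, hzs, mul_one]
      have h3 : b ∈ zpowers (y ^ s) := zpowers_eq_of_prime hrP hbo (pow_mem hy s) hys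
      have h4 : Commute (y ^ s) u := by rw [← hes]; exact Commute.pow_left heu s
      exact of_fix_bot h2 hu (commute_of_mem_zpowers h3 h4)) (hQH.trans A.HP) (hEH.trans A.HP) (A.four.solv P)
      (A.cop hQH) (A.cop hEH) (by
    rw [eq_bot_iff]
    rintro u ⟨hu, hu'⟩
    have h3 : Commute b u := mem_centralizer_iff.1 hu' b (mem_sup_left (mem_zpowers b))
    have h4 : Commute c u := mem_centralizer_iff.1 hu' c (mem_sup_right (mem_zpowers c))
    exact Subgroup.mem_bot.2 (A.noP hr hs hrp hsp hrs (PEl.of_order hrP hbo) (PEl.of_order hsP hco) hbc hu h3 h4))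
  apply hQ1
  rw [eq_bot_iff]
  intro u hu
  exact Subgroup.mem_bot.2 (A.faith u (hQH hu) (hQE hu))

theorem A2' (A : Act G σ p P H) {q s : ℕ} (hq : q ∈ σ) (hs : s ∈ σ) (hqp : q ≠ p) (hsp : s ≠ p) (hqs : q ≠ s)
    (hQ1 : BG.pCoreOf q H ≠ ⊥) (hS1 : BG.pCoreOf s H ≠ ⊥)
    (hcent : ∀ x ∈ H, x ∈ centralizer (BG.pCoreOf q H : Set G) → x ∈ centralizer (BG.pCoreOf s H : Set G) →
      x ∈ BG.pCoreOf q H ⊔ BG.pCoreOf s H) (hrk : Rk1 s (BG.pCoreOf s H)) : False := by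
  obtain ⟨r, hr, hrp, hrq, hrs, -⟩ := A.four.fourth A.hp hq hs hqp hsp hqs
  have hqP := A.four.prime q hq
  have hrP := A.four.prime r hr
  have hsP := A.four.prime s hs
  set Q := BG.pCoreOf q H with hQdef
  set S := BG.pCoreOf s H with hSdef
  have hQq : IsPGroup q Q := BG.pCoreOf_isPGroup q H
  have hSs : IsPGroup s S := BG.pCoreOf_isPGroup s H
  have hQH : Q ≤ H := BG.pCoreOf_le q H
  have hSH : S ≤ H := BG.pCoreOf_le s H
  have hHQ : H ≤ normalizer (Q : Set G) := BG.le_normalizer_pCoreOf q H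
  have hHS : H ≤ normalizer (S : Set G) := BG.le_normalizer_pCoreOf s H
  have hQS : ∀ x ∈ Q, ∀ y ∈ S, Commute x y := fun x hx y hy => core_commute hqP hsP hqs hx hy
  obtain ⟨c, hc, hco, hcS, huc⟩ := exists_unique_sub hsP hSs hS1 hrk
  have hcH := hSH hc
  have hcP : PEl s c := PEl.of_order hsP hco
  have hHc : ∀ h ∈ H, h ∈ normalizer (zpowers c : Set G) := fun h hh =>
    normalizes_zpowers hc hco huc (hHS hh)
  have L1 : ∀ b' ∈ H, orderOf b' = r → Commute b' c → Q ⊓ centralizer ({b'} : Set G) = ⊥ := by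
    intro b' hb' hbo' hbc'
    refine fix_bot fun u hu hbu => ?_
    by_contra hu1
    exact A.four.comm3g hq hr hs hrq.symm hrs hqs (PEl.of_mem hQq hu hu1) (PEl.of_order hrP hbo') hcP
      hbu.symm (hQS u hu c hc) hbc'
  have hrQ : ¬ r ∣ Nat.card Q := not_dvd_pgroup hqP hrP hrq hQq
  -- `b`
  obtain ⟨b, hb, hbo, hbc⟩ : ∃ b ∈ H, orderOf b = r ∧ Commute b c := by
    obtain ⟨e, he, heo, hfe⟩ := exists_fix hrP (A.big hr hrp) (M := zpowers c) (fun h hh => hHc h hh)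
      (by rw [Ne, zpowers_eq_bot]; exact ne_one_of_order hsP hco)
      (by rw [Nat.card_zpowers, hco]; exact fun h => hrs ((Nat.prime_dvd_prime_iff_eq hrP hsP).1 h))
    obtain ⟨u, hu, hu1, heu⟩ := exists_of_fix hfe
    exact ⟨e, he, heo, (commute_of_mem_zpowers (zpowers_eq_of_prime hsP hco hu hu1) heu.symm).symm⟩
  -- `b'`
  obtain ⟨b', hb', hbo', hnc⟩ : ∃ b ∈ H, orderOf b = r ∧ ¬ Commute b c := by
    by_contra hcon
    push Not at hcon
    exact A.big hr hrp (rk1_of_fpf hrP hHQ hQ1 hrQ fun e he heo => L1 e he heo (hcon e he heo))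
  have hrs1 : r ∣ s - 1 := dvd_pred hrP hsP hbo' hco (hHc b' hb') hnc
  have hs2 : s ≠ 2 := by
    rintro rfl
    norm_num at hrs1
    exact hrP.one_lt.ne' hrs1
  have hltrs : r ≤ s - 1 := Nat.le_of_dvd (by have := hsP.one_lt; omega) hrs1
  -- `Y1`
  set C1 : Subgroup G := H ⊓ centralizer ({c} : Set G) with hC1
  obtain ⟨Y, hY, hKY⟩ := BG.exists_isPiHallOf_ge (π := {r, s}) (M := C1) (A.four.solv C1)
    (K := zpowers b) (by rw [zpowers_le]; exact ⟨hb, mem_cent_iff.2 hbc.symm⟩) (by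
      intro t ht htd
      rw [Nat.card_zpowers, hbo] at htd
      exact Or.inl ((Nat.prime_dvd_prime_iff_eq ht hrP).1 htd))
  have hbY : b ∈ Y := hKY (mem_zpowers b)
  have hYH : Y ≤ H := hY.1.trans inf_le_left
  have hYc : ∀ y ∈ Y, Commute y c := fun y hy => (mem_cent_iff.1 (hY.1 hy).2).symm
  have hYs : ¬ Rk1 s Y := by
    intro hrkY
    have h1 := A.big hs hsp
    unfold Rk1 at h1
    push Not at h1
    obtain ⟨a1, ha1, a2, ha2, ho1, ho2, ha, hna⟩ := h1
    have hc1 : Commute a1 c := commute_of_same hsP ho1 hco (hHc a1 ha1)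
    have hc2 : Commute a2 c := commute_of_same hsP ho2 hco (hHc a2 ha2)
    have hn : zpowers a1 ≤ normalizer (zpowers a2 : Set G) :=
      norm_zpowers_of_commute fun x hx => (commute_of_mem_zpowers hx ha).symm
    obtain ⟨g, hg, hgY⟩ := BG.IsPiHallOf.exists_conj_ge (A.four.solv C1) hY (K := zpowers a1 ⊔ zpowers a2)
      (sup_le (by rw [zpowers_le]; exact ⟨ha1, mem_cent_iff.2 hc1.symm⟩)
        (by rw [zpowers_le]; exact ⟨ha2, mem_cent_iff.2 hc2.symm⟩)) (by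
      intro t ht htd
      have hcard := BG3.card_sup_dvd_mul' hn
      rw [Nat.card_zpowers, Nat.card_zpowers, ho1, ho2] at hcard
      rcases (ht.dvd_mul).1 (htd.trans hcard) with h1 | h1
      · exact Or.inr ((Nat.prime_dvd_prime_iff_eq ht hsP).1 h1)
      · exact Or.inr ((Nat.prime_dvd_prime_iff_eq ht hsP).1 h1))
    have hmem : ∀ z ∈ zpowers a1 ⊔ zpowers a2, g⁻¹ * z * g ∈ Y := by
      intro z hz
      obtain ⟨w, hw, hwz⟩ := hgY hz
      have : z = g * w * g⁻¹ := hwz.symm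
      rw [this]
      have e : g⁻¹ * (g * w * g⁻¹) * g = w := by group
      rw [e]; exact hw
    have hcoj : ∀ y : G, orderOf (g⁻¹ * y * g) = orderOf y := fun y => by
      have := orderOf_injective (MulAut.conj g⁻¹).toMonoidHom (MulAut.conj g⁻¹).injective y
      have e : (MulAut.conj g⁻¹).toMonoidHom y = g⁻¹ * y * g := by
        show g⁻¹ * y * g⁻¹⁻¹ = _
        rw [inv_inv]
      rwa [e] at this
    have h2 := hrkY _ (hmem a1 (mem_sup_left (mem_zpowers a1))) _ (hmem a2 (mem_sup_right (mem_zpowers a2)))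
      (by rw [hcoj, ho1]) (by rw [hcoj, ho2]) (by
        show g⁻¹ * a1 * g * (g⁻¹ * a2 * g) = g⁻¹ * a2 * g * (g⁻¹ * a1 * g)
        calc g⁻¹ * a1 * g * (g⁻¹ * a2 * g) = g⁻¹ * (a1 * a2) * g := by group
          _ = g⁻¹ * (a2 * a1) * g := by rw [ha.eq]
          _ = g⁻¹ * a2 * g * (g⁻¹ * a1 * g) := by group)
    apply hna
    obtain ⟨n, hn⟩ := mem_zpowers_iff.1 h2
    rw [mem_zpowers_iff]
    refine ⟨n, ?_⟩
    have e1 : g⁻¹ * a1 * g = g⁻¹ * a1 * g⁻¹⁻¹ := by rw [inv_inv]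
    rw [e1, conj_zpow, inv_inv] at hn
    have : g * (g⁻¹ * a1 ^ n * g) * g⁻¹ = g * (g⁻¹ * a2 * g) * g⁻¹ := by rw [hn]
    calc a1 ^ n = g * (g⁻¹ * a1 ^ n * g) * g⁻¹ := by group
      _ = g * (g⁻¹ * a2 * g) * g⁻¹ := this
      _ = a2 := by group
  have hcore_r : BG.pCoreOf r Y = ⊥ := by
    by_contra hT1
    have hrkT : Rk1 r (BG.pCoreOf r Y) := rk1_of_fpf hrP ((BG.pCoreOf_le r Y).trans (hYH.trans hHQ)) hQ1 hrQ
      fun e he heo => L1 e (hYH (BG.pCoreOf_le r Y he)) heo (hYc e (BG.pCoreOf_le r Y he))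
    obtain ⟨b1, hb1, hb1o, -, hub1⟩ := exists_unique_sub hrP (BG.pCoreOf_isPGroup r Y) hT1 hrkT
    have hb1Y : b1 ∈ Y := BG.pCoreOf_le r Y hb1
    have hnb : Y ≤ normalizer (zpowers b1 : Set G) := fun y hy =>
      normalizes_zpowers hb1 hb1o hub1 (BG.le_normalizer_pCoreOf r Y hy)
    have hPb : P ⊓ centralizer ({b1} : Set G) ≠ ⊥ := fun h =>
      hQ1 (A.frobP hr hrp hQH hb1o (hYH hb1Y) (hHQ (hYH hb1Y)) (L1 b1 (hYH hb1Y) hb1o (hYc b1 hb1Y)) h)
    obtain ⟨e, he, heo, hfe⟩ := exists_fix hsP hYs (norm_fix' (hYH.trans A.HP) hnb) hPb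
      (not_dvd_of_le inf_le_left (A.notdvd hs hsp))
    have heb : Commute e b1 := by
      by_contra hne
      have h1 := Nat.le_of_dvd (by have := hrP.one_lt; omega) (dvd_pred hsP hrP heo hb1o (hnb he) hne)
      omega
    obtain ⟨u, hu, hu1, heu⟩ := exists_of_fix hfe
    exact hu1 (A.noP hr hs hrp hsp hrs (PEl.of_order hrP hb1o) (PEl.of_order hsP heo) heb.symm hu.1
      (mem_cent_iff.1 hu.2) heu)
  have hcore : ∀ t : ℕ, t.Prime → t ≠ s → BG.pCoreOf t Y = ⊥ := by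
    intro t ht hts
    by_cases htr : t = r
    · rw [htr]; exact hcore_r
    · apply core_bot ht
      intro h
      rcases hY.2.1 t ht h with h1 | h1
      · exact htr h1
      · exact hts h1
  have hfit := BG.inf_centralizer_fittingOf_le (A.four.solv Y)
  rw [fitting_one hsP hcore] at hfit
  set S2 := BG.pCoreOf s Y with hS2
  have hS2s : IsPGroup s S2 := BG.pCoreOf_isPGroup s Y
  have hS2Y : S2 ≤ Y := BG.pCoreOf_le s Y
  obtain ⟨g, hg⟩ := cyclic_of_rk1 hsP hs2 hSs hrk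
  have hHg : ∀ h ∈ H, h ∈ normalizer (zpowers g : Set G) := by rw [hg]; exact fun h hh => hHS hh
  have hrS2 : ¬ r ∣ Nat.card S2 := not_dvd_pgroup hsP hrP hrs hS2s
  have key : ∀ k ∈ S2, ∀ y ∈ zpowers b, ⁅k, y⁆ ∈ S := by
    intro k hk y hy
    by_cases hy1 : y = 1
    · rw [hy1, commutatorElement_one_right]; exact S.one_mem
    have hyY : y ∈ Y := by
      obtain ⟨n, rfl⟩ := mem_zpowers_iff.1 hy
      exact Y.zpow_mem hbY n
    have hyo : orderOf y = r := by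
      rw [← hbo, ← Nat.card_zpowers, ← Nat.card_zpowers]
      have h1 := zpowers_eq_of_prime hrP hbo hy hy1
      have h2 : zpowers y = zpowers b := le_antisymm (by rw [zpowers_le]; exact hy) (by rw [zpowers_le]; exact h1)
      rw [h2]
    have hyS2 : y ∈ normalizer (S2 : Set G) := BG.le_normalizer_pCoreOf s Y hyY
    have h1 := hh hrP hyo (A.four.solv S2) (odd_card_pgroup hsP hs2 hS2s) hyS2
      (hS2Y.trans (hYH.trans hHQ)) (hHQ (hYH hyY)) (A.four.solv Q)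
      (coprime_pgroup hsP hS2s (not_dvd_pgroup hqP hsP hqs.symm hQq)) hrS2 hrQ (L1 y (hYH hyY) hyo (hYc y hyY)) k hk
    have h2 := comm_cyclic (g := g) (hHg k (hYH (hS2Y hk))) (hHg y (hYH hyY))
    rw [hg] at h2
    have hkyS2 : ⁅k, y⁆ ∈ S2 := by
      rw [commutatorElement_def]
      have h3 := (mem_normalizer_iff.1 hyS2 k⁻¹).1 (S2.inv_mem hk)
      have := S2.mul_mem hk h3
      rwa [show k * (y * k⁻¹ * y⁻¹) = k * y * k⁻¹ * y⁻¹ by group] at this
    have h3 := hcent _ (hYH (hS2Y hkyS2)) h1 h2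
    obtain ⟨m, hm⟩ := hS2s ⟨_, hkyS2⟩
    exact mem_of_pow hqP hsP hqs hQq hQS hSs h3 (congrArg Subtype.val hm)
  have hzbH : zpowers b ≤ H := by rw [zpowers_le]; exact hb
  have hSab : IsMulCommutative S := by
    rw [← hg]; infer_instance
  have hcopb : ∀ K : Subgroup G, IsPGroup s K → (Nat.card (zpowers b)).Coprime (Nat.card K) := by
    intro K hK
    rw [Nat.card_zpowers, hbo]
    exact (Nat.Prime.coprime_iff_not_dvd hrP).2 (not_dvd_pgroup hsP hrP hrs hK)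
  have hSb : (⁅S, zpowers b⁆ : Subgroup G) = ⊥ := by
    by_contra hW
    have hWS : (⁅S, zpowers b⁆ : Subgroup G) ≤ S := le_normalizer_iff_commutator_le_left.1 (hzbH.trans hHS)
    have hfixW := ab_fix hSab (hzbH.trans hHS) (hcopb S hSs)
    obtain ⟨w, hw, hwo, -⟩ := exists_central hsP (hSs.to_le hWS) hW
    have h1 : w ∈ zpowers c := huc w (hWS hw) hwo
    have h2 : c ∈ zpowers w := zpowers_eq_of_prime hsP hco h1 (ne_one_of_order hsP hwo)
    have h3 : c ∈ (⁅S, zpowers b⁆ : Subgroup G) ⊓ centralizer (zpowers b : Set G) := by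
      refine ⟨?_, by rw [cent_zpowers]; exact mem_cent_iff.2 hbc⟩
      have : zpowers w ≤ (⁅S, zpowers b⁆ : Subgroup G) := by rw [zpowers_le]; exact hw
      exact this h2
    rw [hfixW, Subgroup.mem_bot] at h3
    exact ne_one_of_order hsP hco h3
  have hW2 : (⁅S2, zpowers b⁆ : Subgroup G) ≤ S := by
    rw [Subgroup.commutator_le]
    exact key
  have hbnS2 : zpowers b ≤ normalizer (S2 : Set G) := by
    rw [zpowers_le]; exact BG.le_normalizer_pCoreOf s Y hbY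
  have h1 := Cop.commutator_commutator_eq hbnS2 (hcopb S2 hS2s) (Or.inl (A.four.solv _))
  have h2 : (⁅⁅S2, zpowers b⁆, zpowers b⁆ : Subgroup G) = ⊥ := by
    rw [eq_bot_iff, ← hSb]
    exact commutator_mono hW2 le_rfl
  rw [h2] at h1
  have h3 := commutator_eq_bot_iff_le_centralizer.1 h1.symm
  rw [cent_zpowers] at h3
  have h4 : b ∈ S2 := hfit ⟨hbY, mem_centralizer_iff.2 fun k hk => (mem_cent_iff.1 (h3 hk)).symm.eq⟩
  apply hrS2
  rw [← hbo]
  have := orderOf_dvd_natCard (⟨b, h4⟩ : S2)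
  rwa [← Subgroup.orderOf_coe] at this

theorem A2 (A : Act G σ p P H) {q s : ℕ} (hq : q ∈ σ) (hs : s ∈ σ) (hqp : q ≠ p) (hsp : s ≠ p) (hqs : q ≠ s)
    (hQ1 : BG.pCoreOf q H ≠ ⊥) (hS1 : BG.pCoreOf s H ≠ ⊥)
    (hcent : ∀ x ∈ H, x ∈ centralizer (BG.pCoreOf q H : Set G) → x ∈ centralizer (BG.pCoreOf s H : Set G) →
      x ∈ BG.pCoreOf q H ⊔ BG.pCoreOf s H) : False := by
  have hqP := A.four.prime q hq
  have hsP := A.four.prime s hs
  by_cases h1 : Rk1 s (BG.pCoreOf s H)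
  · exact A.A2' hq hs hqp hsp hqs hQ1 hS1 hcent h1
  by_cases h2 : Rk1 q (BG.pCoreOf q H)
  · exact A.A2' hs hq hsp hqp hqs.symm hS1 hQ1 (fun x hx hx1 hx2 => by
      rw [sup_comm]; exact hcent x hx hx2 hx1) h2
  obtain ⟨a, ha, hao, hPa⟩ := exists_fix hqP h2 ((BG.pCoreOf_le q H).trans A.HP) A.P1 (A.notdvd hq hqp)
  obtain ⟨e, he, heo, hfe⟩ := exists_fix hsP h1 (M := P ⊓ centralizer ({a} : Set G))
    (norm_fix ((BG.pCoreOf_le s H).trans A.HP) fun y hy => core_commute hqP hsP hqs ha hy) hPa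
    (not_dvd_of_le inf_le_left (A.notdvd hs hsp))
  obtain ⟨u, hu, hu1, heu⟩ := exists_of_fix hfe
  exact hu1 (A.noP hq hs hqp hsp hqs (PEl.of_order hqP hao) (PEl.of_order hsP heo)
    (core_commute hqP hsP hqs ha he) hu.1 (mem_cent_iff.1 hu.2) heu)

/-- Case A. -/
theorem false (A : Act G σ p P H)
    (hHall : ∀ K : Subgroup G, (¬ p ∣ Nat.card K) → ∃ g : G, K ≤ MulAut.conj g • H) : False := by
  have hcoreσ : ∀ t : ℕ, t.Prime → BG.pCoreOf t H ≠ ⊥ → t ∈ σ ∧ t ≠ p := by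
    intro t ht hne
    constructor
    · apply A.four.sub t ht
      by_contra h
      exact hne (core_bot ht fun h1 => h (h1.trans (card_subgroup_dvd_card H)))
    · rintro rfl
      exact hne (core_bot ht A.pH)
  -- a nontrivial core
  obtain ⟨q, hqP, hQ1⟩ : ∃ q : ℕ, q.Prime ∧ BG.pCoreOf q H ≠ ⊥ := by
    by_contra hcon
    push Not at hcon
    have h1 : fittingOf H ≠ ⊥ := by
      apply BG.fittingOf_ne_bot (A.four.solv H)
      rintro rfl
      obtain ⟨r, hr, s, hs, hrp, -⟩ : ∃ r ∈ σ, ∃ s ∈ σ, r ≠ p ∧ s ≠ r := by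
        by_contra hc
        push Not at hc
        have h4 := A.four.card
        have h5 : σ ⊆ {p} := by
          intro x hx
          rw [Finset.mem_singleton]
          by_contra hxp
          exact hxp ((hc x hx p A.hp hxp).symm)
        have h6 := Finset.card_le_card h5
        rw [h4, Finset.card_singleton] at h6
        omega
      refine A.big hr hrp fun a ha b _ hao _ _ => ?_
      rw [Subgroup.mem_bot] at ha
      exact absurd ha (ne_one_of_order (A.four.prime r hr) hao)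
    apply h1
    rw [fitting_one (s := 2) Nat.prime_two (fun t ht _ => hcon t ht)]
    exact hcon 2 Nat.prime_two
  obtain ⟨hq, hqp⟩ := hcoreσ q hqP hQ1
  by_cases hex : ∃ s : ℕ, s.Prime ∧ s ≠ q ∧ BG.pCoreOf s H ≠ ⊥
  · obtain ⟨s, hsP, hsq, hS1⟩ := hex
    obtain ⟨hs, hsp⟩ := hcoreσ s hsP hS1
    have hoth : ∀ t : ℕ, t.Prime → t ≠ q → t ≠ s → BG.pCoreOf t H = ⊥ := by
      intro t ht htq hts
      by_contra hT
      obtain ⟨htσ, -⟩ := hcoreσ t ht hT
      obtain ⟨x, hx, hx1⟩ := exists_ne_one_of_ne_bot hQ1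
      obtain ⟨y, hy, hy1⟩ := exists_ne_one_of_ne_bot hS1
      obtain ⟨z, hz, hz1⟩ := exists_ne_one_of_ne_bot hT
      exact A.four.comm3g hq hs htσ hsq.symm hts.symm htq.symm (PEl.of_mem (BG.pCoreOf_isPGroup q H) hx hx1)
        (PEl.of_mem (BG.pCoreOf_isPGroup s H) hy hy1) (PEl.of_mem (BG.pCoreOf_isPGroup t H) hz hz1)
        (core_commute hqP hsP hsq.symm hx hy) (core_commute hqP ht htq.symm hx hz)
        (core_commute hsP ht hts.symm hy hz)
    have hfit2 := fitting_two hqP hoth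
    refine A.A2 hq hs hqp hsp hsq.symm hQ1 hS1 fun x hx hx1 hx2 => hfit2 ?_
    refine BG.inf_centralizer_fittingOf_le (A.four.solv H) ⟨hx, ?_⟩
    have h1 : fittingOf H ≤ centralizer ({x} : Set G) :=
      hfit2.trans (sup_le (fun y hy => mem_cent_iff.2 (mem_centralizer_iff.1 hx1 y hy).symm)
        (fun y hy => mem_cent_iff.2 (mem_centralizer_iff.1 hx2 y hy).symm))
    exact mem_centralizer_iff.2 fun y hy => (mem_cent_iff.1 (h1 hy)).symm.eq
  · push Not at hex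
    have hf := fitting_one hqP (K := H) fun t ht htq => hex t ht htq
    refine A.A1 hHall hq hqp (BG.pCoreOf_isPGroup q H) (BG.pCoreOf_le q H) (BG.le_normalizer_pCoreOf q H) ?_
    intro x hx hx1
    rw [← hf]
    refine BG.inf_centralizer_fittingOf_le (A.four.solv H) ⟨hx, ?_⟩
    rw [hf]; exact hx1

end Act

end Cfsg.Agent.H24J
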