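import Cfsg.Agent.H24J.A2

set_option autoImplicit false

/-! Four primes pairwise joined in a solvable group: case B and the theorem. (owner: helper24) -/

namespace Cfsg.Agent.H24J

open Subgroup Cfsg
open scoped Pointwise commutatorElement

universe u
variable {G : Type u} [Group G] [Finite G] {σ : Finset ℕ}

/-- a `{p, q}'`-subgroup `H` acting faithfully on `P × Q`. -/
structure Bi (G : Type u) [Group G] [Finite G] (σ : Finset ℕ) (p q : ℕ) (P Q H : Subgroup G) : Prop where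
  four : Four G σ
  hp : p ∈ σ
  hq : q ∈ σ
  pq : p ≠ q
  P1 : P ≠ ⊥
  Q1 : Q ≠ ⊥
  Pp : IsPGroup p P
  Qq : IsPGroup q Q
  PQ : ∀ x ∈ P, ∀ y ∈ Q, Commute x y
  HP : H ≤ normalizer (P : Set G)
  HQ : H ≤ normalizer (Q : Set G)
  faith : ∀ x ∈ H, x ∈ centralizer (P : Set G) → x ∈ centralizer (Q : Set G) → x = 1
  pH : ¬ p ∣ Nat.card H
  qH : ¬ q ∣ Nat.card H
  idx : ∀ t ∈ σ, t ≠ p → t ≠ q → ¬ t ∣ H.index

omit [Finite G] in
theorem inv_comm {M : Subgroup G} {x k : G} (hx2 : x * x = 1) (hinv : ∀ m ∈ M, x * m * x⁻¹ = m⁻¹)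
    (hk : k ∈ normalizer (M : Set G)) : ⁅k, x⁆ ∈ centralizer (M : Set G) := by
  rw [mem_centralizer_iff]
  intro m hm
  have h3 : k⁻¹ * m * k ∈ M := by
    have := (mem_normalizer_iff.1 (inv_mem hk) m).1 hm
    rwa [inv_inv] at this
  have h4 : x * m⁻¹ * x⁻¹ = m := by rw [hinv _ (M.inv_mem hm), inv_inv]
  have h5 : x * (k⁻¹ * m * k)⁻¹ * x⁻¹ = k⁻¹ * m * k := by rw [hinv _ (M.inv_mem h3), inv_inv]
  rw [commutatorElement_def]
  calc m * (k * x * k⁻¹ * x⁻¹) = k * (k⁻¹ * m * k) * x * k⁻¹ * x⁻¹ := by group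
    _ = k * (x * (k⁻¹ * m * k)⁻¹ * x⁻¹) * x * k⁻¹ * x⁻¹ := by rw [h5]
    _ = k * x * k⁻¹ * m⁻¹ * x⁻¹ := by group
    _ = k * x * k⁻¹ * x⁻¹ * (x * m⁻¹ * x⁻¹) := by group
    _ = k * x * k⁻¹ * x⁻¹ * m := by rw [h4]

omit [Finite G] in
/-- the product of two inverting elements centralizes. -/
theorem inv_inv_cent {M : Subgroup G} {x y : G} (hx : ∀ m ∈ M, x * m * x⁻¹ = m⁻¹)
    (hy : ∀ m ∈ M, y * m * y⁻¹ = m⁻¹) : x * y ∈ centralizer (M : Set G) := by
  rw [mem_centralizer_iff]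
  intro m hm
  have h1 : x * (y * m * y⁻¹) * x⁻¹ = m := by rw [hy m hm, hx _ (M.inv_mem hm), inv_inv]
  calc m * (x * y) = (x * (y * m * y⁻¹) * x⁻¹) * (x * y) := by rw [h1]
    _ = x * y * m := by group

namespace Bi

variable {p q : ℕ} {P Q H : Subgroup G}

theorem symm (B : Bi G σ p q P Q H) : Bi G σ q p Q P H where
  four := B.four
  hp := B.hq
  hq := B.hp
  pq := B.pq.symm
  P1 := B.Q1
  Q1 := B.P1
  Pp := B.Qq
  Qq := B.Pp
  PQ := fun x hx y hy => (B.PQ y hy x hx).symm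
  HP := B.HQ
  HQ := B.HP
  faith := fun x hx h1 h2 => B.faith x hx h2 h1
  pH := B.qH
  qH := B.pH
  idx := fun t ht h1 h2 => B.idx t ht h2 h1

theorem big (B : Bi G σ p q P Q H) {t : ℕ} (ht : t ∈ σ) (htp : t ≠ p) (htq : t ≠ q) : ¬ Rk1 t H :=
  B.four.not_rk1 ht (B.idx t ht htp htq)

theorem notP (B : Bi G σ p q P Q H) {t : ℕ} (ht : t ∈ σ) (htp : t ≠ p) : ¬ t ∣ Nat.card P :=
  not_dvd_pgroup (B.four.prime p B.hp) (B.four.prime t ht) htp B.Pp

theorem D0 (B : Bi G σ p q P Q H) {t : ℕ} (ht : t ∈ σ) (htp : t ≠ p) (htq : t ≠ q) {x : G} (hx : orderOf x = t) :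
    P ⊓ centralizer ({x} : Set G) = ⊥ ∨ Q ⊓ centralizer ({x} : Set G) = ⊥ := by
  by_contra hcon
  push Not at hcon
  obtain ⟨u, hu, hu1, hxu⟩ := exists_of_fix hcon.1
  obtain ⟨v, hv, hv1, hxv⟩ := exists_of_fix hcon.2
  exact B.four.comm3g B.hp B.hq ht B.pq htq.symm htp.symm (PEl.of_mem B.Pp hu hu1) (PEl.of_mem B.Qq hv hv1)
    (PEl.of_order (B.four.prime t ht) hx) (B.PQ u hu v hv) hxu.symm hxv.symm

theorem B2a (B : Bi G σ p q P Q H) (h2 : 2 ∈ σ) (h2p : 2 ≠ p) (h2q : 2 ≠ q) {e : G} (he : e ∈ H)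
    (heo : orderOf e = 2) (hcP : e ∈ centralizer (P : Set G)) : False := by
  obtain ⟨t, ht, htp, htq, ht2, -⟩ := B.four.fourth B.hp B.hq h2 B.pq.symm h2p h2q.symm
  have hcu : ∀ u ∈ P, Commute e u := fun u hu => (mem_centralizer_iff.1 hcP u hu).symm
  have hPe : P ⊓ centralizer ({e} : Set G) ≠ ⊥ := by
    obtain ⟨u, hu, hu1⟩ := exists_ne_one_of_ne_bot B.P1
    intro h
    exact hu1 (of_fix_bot h hu (hcu u hu))
  have hQe := (B.D0 h2 h2p h2q heo).resolve_left hPe
  have hinv := inverts heo (B.HQ he) hQe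
  have hee : e * e = 1 := by rw [← pow_two, ← heo, pow_orderOf_eq_one]
  have hcen : ∀ h ∈ H, Commute h e := by
    intro h hh
    apply commutatorElement_eq_one_iff_commute.1
    refine B.faith _ ?_ ?_ (inv_comm hee hinv (B.HQ hh))
    · rw [commutatorElement_def]
      exact H.mul_mem (H.mul_mem (H.mul_mem hh he) (H.inv_mem hh)) (H.inv_mem he)
    · rw [commutatorElement_def]
      exact mul_mem ((mem_normalizer_iff.1 (norm_cent B.HP hh) e).1 hcP) (inv_mem hcP)
  have htP := B.four.prime t ht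
  obtain ⟨c, hc, hco, hfc⟩ := exists_fix htP (B.big ht htp htq) B.HP B.P1 (B.notP ht htp)
  obtain ⟨u, hu, hu1, hcu'⟩ := exists_of_fix hfc
  exact B.four.comm3g B.hp h2 ht h2p.symm ht2.symm htp.symm (PEl.of_mem B.Pp hu hu1)
    (PEl.of_order Nat.prime_two heo) (PEl.of_order htP hco) (hcu u hu).symm hcu'.symm (hcen c hc).symm

theorem B2 (B : Bi G σ p q P Q H) (h2 : 2 ∈ σ) (h2p : 2 ≠ p) (h2q : 2 ≠ q) : False := by
  have h1 := B.big h2 h2p h2q
  unfold Rk1 at h1
  push Not at h1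
  obtain ⟨a, ha, b, hb, hao, hbo, hab, hba⟩ := h1
  have haa : a * a = 1 := by rw [← pow_two, ← hao, pow_orderOf_eq_one]
  have hbb : b * b = 1 := by rw [← pow_two, ← hbo, pow_orderOf_eq_one]
  have hai : a⁻¹ = a := by rw [inv_eq_iff_mul_eq_one, haa]
  have habo : orderOf (a * b) = 2 := by
    apply orderOf_eq_prime
    · rw [hab.mul_pow, pow_two, pow_two, haa, hbb, one_mul]
    · intro h
      apply hba
      have : b = a⁻¹ := by rw [eq_comm, inv_eq_iff_mul_eq_one, h]
      rw [this]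
      exact inv_mem (mem_zpowers a)
  have habH : a * b ∈ H := H.mul_mem ha hb
  have e1 : a * (a * b) = b := by rw [← mul_assoc, haa, one_mul]
  have e2 : (a * b) * b = a := by rw [mul_assoc, hbb, mul_one]
  rcases B.D0 h2 h2p h2q hao with h1 | h1
  · rcases B.D0 h2 h2p h2q hbo with h3 | h3
    · exact B.B2a h2 h2p h2q habH habo (inv_inv_cent (inverts hao (B.HP ha) h1) (inverts hbo (B.HP hb) h3))
    · rcases B.D0 h2 h2p h2q habo with h4 | h4
      · have := inv_inv_cent (inverts hao (B.HP ha) h1) (inverts habo (B.HP habH) h4)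
        rw [e1] at this
        exact B.B2a h2 h2p h2q hb hbo this
      · have := inv_inv_cent (inverts habo (B.HQ habH) h4) (inverts hbo (B.HQ hb) h3)
        rw [e2] at this
        exact B.symm.B2a h2 h2q h2p ha hao this
  · rcases B.D0 h2 h2p h2q hbo with h3 | h3
    · rcases B.D0 h2 h2p h2q habo with h4 | h4
      · have := inv_inv_cent (inverts habo (B.HP habH) h4) (inverts hbo (B.HP hb) h3)
        rw [e2] at this
        exact B.B2a h2 h2p h2q ha hao this
      · have := inv_inv_cent (inverts hao (B.HQ ha) h1) (inverts habo (B.HQ habH) h4)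
        rw [e1] at this
        exact B.symm.B2a h2 h2q h2p hb hbo this
    · exact B.symm.B2a h2 h2q h2p habH habo (inv_inv_cent (inverts hao (B.HQ ha) h1) (inverts hbo (B.HQ hb) h3))

theorem B3 (B : Bi G σ p q P Q H) {r s : ℕ} (hr : r ∈ σ) (hs : s ∈ σ) (hrp : r ≠ p) (hrq : r ≠ q) (hsp : s ≠ p)
    (hsq : s ≠ q) (hrs : r ≠ s) : ∀ x ∈ BG.pCoreOf r H, x ∈ centralizer (P : Set G) → x = 1 := by
  have hrP := B.four.prime r hr
  have hsP := B.four.prime s hs
  set N := BG.pCoreOf r H with hN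
  have hNH : N ≤ H := BG.pCoreOf_le r H
  have hNr : IsPGroup r N := BG.pCoreOf_isPGroup r H
  set L : Subgroup G := N ⊓ centralizer (P : Set G) with hL
  suffices h : L = ⊥ by
    intro x hx hx'
    have : x ∈ L := ⟨hx, hx'⟩
    rw [h] at this
    exact Subgroup.mem_bot.1 this
  by_contra hL1
  have hLH : L ≤ H := inf_le_left.trans hNH
  have hHL : H ≤ normalizer (L : Set G) := norm_inf (BG.le_normalizer_pCoreOf r H) (norm_cent B.HP)
  have hLP : ∀ x ∈ L, ∀ u ∈ P, Commute x u := fun x hx u hu => (mem_centralizer_iff.1 hx.2 u hu).symm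
  obtain ⟨u0, hu0, hu01⟩ := exists_ne_one_of_ne_bot B.P1
  have hrk : Rk1 r L := rk1_of_fpf hrP (hLH.trans B.HQ) B.Q1 (B.symm.notP hr hrq) fun e he heo =>
    (B.D0 hr hrp hrq heo).resolve_left fun h => hu01 (of_fix_bot h hu0 (hLP e he u0 hu0))
  obtain ⟨z, hz, hzo, -, huz⟩ := exists_unique_sub hrP (hNr.to_le inf_le_left) hL1 hrk
  have hHz : ∀ h ∈ H, h ∈ normalizer (zpowers z : Set G) := fun h hh => normalizes_zpowers hz hzo huz (hHL hh)
  have key : ∀ y ∈ H, orderOf y = s → P ⊓ centralizer ({y} : Set G) = ⊥ := by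
    intro y hy hyo
    by_cases hyz : Commute y z
    · refine fix_bot fun u hu hyu => ?_
      by_contra hu1
      exact B.four.comm3g B.hp hr hs hrp.symm hrs hsp.symm (PEl.of_mem B.Pp hu hu1) (PEl.of_order hrP hzo)
        (PEl.of_order hsP hyo) (hLP z hz u hu).symm hyu.symm hyz.symm
    · refine (B.D0 hs hsp hsq hyo).resolve_right fun h => ?_
      have hzH : zpowers z ≤ H := by rw [zpowers_le]; exact hLH hz
      have h1 := frob1 hsP (U := zpowers z) (N := Q) hyo (hHz y hy) (fix_zpowers_bot (r := r) hrP hzo hyz)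
        (hzH.trans B.HQ) (B.HQ hy) (B.four.solv Q)
        (coprime_pgroup (B.four.prime q B.hq) B.Qq (not_dvd_of_le hzH B.qH)) (B.symm.notP hs hsq) h
      exact ne_one_of_order hrP hzo (B.faith z (hLH hz) hz.2 (h1 (mem_zpowers z)))
  exact B.big hs hsp hsq (rk1_of_fpf hsP B.HP B.P1 (B.notP hs hsp) key)

theorem B4 (B : Bi G σ p q P Q H) {r s : ℕ} (hr : r ∈ σ) (hs : s ∈ σ) (hrp : r ≠ p) (hrq : r ≠ q) (hsp : s ≠ p)
    (hsq : s ≠ q) (hrs : r ≠ s) : ∀ y ∈ H, orderOf y = s → ∀ k ∈ BG.pCoreOf r H, Commute k y := by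
  have hrP := B.four.prime r hr
  have hsP := B.four.prime s hs
  have hr2 : r ≠ 2 := by
    rintro rfl
    exact B.B2 hr hrp hrq
  set N := BG.pCoreOf r H with hN
  have hNH : N ≤ H := BG.pCoreOf_le r H
  have hNr : IsPGroup r N := BG.pCoreOf_isPGroup r H
  have hHN : H ≤ normalizer (N : Set G) := BG.le_normalizer_pCoreOf r H
  intro y hy hyo k hk
  have hky : ⁅k, y⁆ ∈ N := by
    rw [commutatorElement_def]
    have h3 := (mem_normalizer_iff.1 (hHN hy) k⁻¹).1 (N.inv_mem hk)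
    have := N.mul_mem hk h3
    rwa [show k * (y * k⁻¹ * y⁻¹) = k * y * k⁻¹ * y⁻¹ by group] at this
  have hsN : ¬ s ∣ Nat.card N := not_dvd_pgroup hrP hsP hrs.symm hNr
  apply commutatorElement_eq_one_iff_commute.1
  rcases B.D0 hs hsp hsq hyo with h | h
  · exact B.B3 hr hs hrp hrq hsp hsq hrs _ hky (hh hsP hyo (B.four.solv N) (odd_card_pgroup hrP hr2 hNr) (hHN hy)
      (hNH.trans B.HP) (B.HP hy) (B.four.solv P)
      (coprime_pgroup (B.four.prime p B.hp) B.Pp (not_dvd_of_le hNH B.pH)).symm hsN (B.notP hs hsp) h k hk)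
  · exact B.symm.B3 hr hs hrq hrp hsq hsp hrs _ hky (hh hsP hyo (B.four.solv N) (odd_card_pgroup hrP hr2 hNr) (hHN hy)
      (hNH.trans B.HQ) (B.HQ hy) (B.four.solv Q)
      (coprime_pgroup (B.four.prime q B.hq) B.Qq (not_dvd_of_le hNH B.qH)).symm hsN (B.symm.notP hs hsq) h k hk)

theorem B5 (B : Bi G σ p q P Q H) {r s : ℕ} (hr : r ∈ σ) (hs : s ∈ σ) (hrp : r ≠ p) (hrq : r ≠ q) (hsp : s ≠ p)
    (hsq : s ≠ q) (hrs : r ≠ s) : Rk1 r (BG.pCoreOf r H) := by
  have hrP := B.four.prime r hr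
  have hsP := B.four.prime s hs
  by_contra hrk
  obtain ⟨c, hc, hco, hfc⟩ := exists_fix hsP (B.big hs hsp hsq) B.HP B.P1 (B.notP hs hsp)
  have hcN := B.B4 hr hs hrp hrq hsp hsq hrs c hc hco
  obtain ⟨e, he, heo, hfe⟩ := exists_fix hrP hrk (M := P ⊓ centralizer ({c} : Set G))
    (norm_fix ((BG.pCoreOf_le r H).trans B.HP) fun k hk => (hcN k hk).symm) hfc
    (not_dvd_of_le inf_le_left (B.notP hr hrp))
  obtain ⟨u, hu, hu1, heu⟩ := exists_of_fix hfe
  exact B.four.comm3g B.hp hr hs hrp.symm hrs hsp.symm (PEl.of_mem B.Pp hu.1 hu1) (PEl.of_order hrP heo)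
    (PEl.of_order hsP hco) heu.symm (mem_cent_iff.1 hu.2).symm (hcN e he)

theorem false (B : Bi G σ p q P Q H) : False := by
  obtain ⟨r, hr, s, hs, hrp, hrq, hsp, hsq, hrs, hall⟩ := B.four.others B.hp B.hq B.pq.symm
  have hrP := B.four.prime r hr
  have hsP := B.four.prime s hs
  have hr2 : r ≠ 2 := by
    rintro rfl
    exact B.B2 hr hrp hrq
  have hs2 : s ≠ 2 := by
    rintro rfl
    exact B.B2 hs hsp hsq
  have hNk := B.B5 hr hs hrp hrq hsp hsq hrs
  have hMk := B.B5 hs hr hsp hsq hrp hrq hrs.symm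
  have hN4 := B.B4 hr hs hrp hrq hsp hsq hrs
  set N := BG.pCoreOf r H with hN
  set M := BG.pCoreOf s H with hM
  have hNr : IsPGroup r N := BG.pCoreOf_isPGroup r H
  have hMs : IsPGroup s M := BG.pCoreOf_isPGroup s H
  have hMH : M ≤ H := BG.pCoreOf_le s H
  have hHN : H ≤ normalizer (N : Set G) := BG.le_normalizer_pCoreOf r H
  have hHM : H ≤ normalizer (M : Set G) := BG.le_normalizer_pCoreOf s H
  obtain ⟨g, hg⟩ := cyclic_of_rk1 hrP hr2 hNr hNk
  obtain ⟨g', hg'⟩ := cyclic_of_rk1 hsP hs2 hMs hMk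
  have hfit : fittingOf H ≤ N ⊔ M := fitting_two hrP fun t ht htr hts => by
    apply core_bot ht
    intro h
    have htσ := B.four.sub t ht (h.trans (card_subgroup_dvd_card H))
    rcases hall t htσ with h1 | h1 | h1 | h1
    · subst h1; exact B.pH h
    · subst h1; exact B.qH h
    · exact htr h1
    · exact hts h1
  have hNM : ∀ x ∈ N, ∀ y ∈ M, Commute x y := fun x hx y hy => core_commute hrP hsP hrs hx hy
  have key : ∀ a ∈ H, orderOf a = s → a ∈ M := by
    intro a ha hao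
    set K : Subgroup G := zpowers a ⊔ M with hK
    have hza : zpowers a ≤ H := by rw [zpowers_le]; exact ha
    have hKH : K ≤ H := sup_le hza hMH
    have hKs : IsPGroup s K := by
      haveI : Fact s.Prime := ⟨hsP⟩
      obtain ⟨m, hm⟩ := IsPGroup.iff_card.1 hMs
      have h1 := BG3.card_sup_dvd_mul' (hza.trans hHM)
      rw [Nat.card_zpowers, hao, hm, ← pow_succ'] at h1
      obtain ⟨n, -, hn⟩ := (Nat.dvd_prime_pow hsP).1 h1
      exact IsPGroup.of_card hn
    have hNK : ∀ x ∈ N, ∀ y ∈ K, Commute x y := by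
      intro x hx y hy
      have : K ≤ centralizer ({x} : Set G) := by
        refine sup_le ?_ fun y hy => mem_cent_iff.2 (hNM x hx y hy)
        rw [zpowers_le]; exact mem_cent_iff.2 (hN4 a ha hao x hx)
      exact mem_cent_iff.1 (this hy)
    have hconj : ∀ h ∈ H, h * a * h⁻¹ ∈ K := by
      intro h hh
      have h1 : ⁅h, a⁆ ∈ centralizer (fittingOf H : Set G) := by
        have h2 : ⁅h, a⁆ ∈ centralizer (N : Set G) := by
          rw [← hg]; exact comm_cyclic (by rw [hg]; exact hHN hh) (by rw [hg]; exact hHN ha)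
        have h3 : ⁅h, a⁆ ∈ centralizer (M : Set G) := by
          rw [← hg']; exact comm_cyclic (by rw [hg']; exact hHM hh) (by rw [hg']; exact hHM ha)
        have h4 : fittingOf H ≤ centralizer ({⁅h, a⁆} : Set G) :=
          hfit.trans (sup_le (fun y hy => mem_cent_iff.2 (mem_centralizer_iff.1 h2 y hy).symm)
            (fun y hy => mem_cent_iff.2 (mem_centralizer_iff.1 h3 y hy).symm))
        exact mem_centralizer_iff.2 fun y hy => (mem_cent_iff.1 (h4 hy)).symm.eq
      have h5 : ⁅h, a⁆ ∈ N ⊔ M := hfit (BG.inf_centralizer_fittingOf_le (B.four.solv H) ⟨by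
        rw [commutatorElement_def]
        exact H.mul_mem (H.mul_mem (H.mul_mem hh ha) (H.inv_mem hh)) (H.inv_mem ha), h1⟩)
      have h6 : h * a * h⁻¹ ∈ N ⊔ K := by
        have e : h * a * h⁻¹ = ⁅h, a⁆ * a := by rw [commutatorElement_def]; group
        rw [e]
        have hle : N ⊔ M ≤ N ⊔ K := sup_le_sup_left le_sup_right N
        exact mul_mem (hle h5) (mem_sup_right (mem_sup_left (mem_zpowers a)))
      refine mem_of_pow hrP hsP hrs hNr hNK hKs h6 (k := 1) ?_
      rw [pow_one, conj_pow, ← hao, pow_orderOf_eq_one, mul_one, mul_inv_cancel]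
    have hHK : H ≤ normalizer (K : Set G) := by
      have key2 : ∀ h ∈ H, ∀ y ∈ K, h * y * h⁻¹ ∈ K := by
        intro h hh y hy
        have h1 : K ≤ K.comap (MulAut.conj h).toMonoidHom := by
          refine sup_le ?_ fun y hy => ?_
          · rw [zpowers_le]; exact hconj h hh
          · exact mem_sup_right ((mem_normalizer_iff.1 (hHM hh) y).1 hy)
        exact h1 hy
      intro h hh
      rw [mem_normalizer_iff]
      intro y
      refine ⟨key2 h hh y, fun hy => ?_⟩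
      have := key2 h⁻¹ (H.inv_mem hh) _ hy
      have e : h⁻¹ * (h * y * h⁻¹) * h⁻¹⁻¹ = y := by group
      rwa [e] at this
    exact BG.le_pCoreOf hKH hHK hKs (mem_sup_left (mem_zpowers a))
  exact B.big hs hsp hsq fun a ha b hb hao hbo hab => hMk a (key a ha hao) b (key b hb hbo) hao hbo hab

end Bi

theorem Four.false (h : Four G σ) : False := by
  haveI := h.sol
  have hcoreσ : ∀ t : ℕ, t.Prime → BG.pCoreOf t (⊤ : Subgroup G) ≠ ⊥ → t ∈ σ := by
    intro t ht hne
    apply h.sub t ht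
    by_contra h1
    exact hne (core_bot ht fun h2 => h1 (h2.trans (card_subgroup_dvd_card _)))
  obtain ⟨p, hpP, hP1⟩ : ∃ p : ℕ, p.Prime ∧ BG.pCoreOf p (⊤ : Subgroup G) ≠ ⊥ := by
    by_contra hcon
    push Not at hcon
    have h1 : fittingOf (⊤ : Subgroup G) ≠ ⊥ := by
      apply BG.fittingOf_ne_bot (h.solv _)
      intro htop
      obtain ⟨t, ht⟩ : ∃ t, t ∈ σ := by
        have : σ.Nonempty := by rw [← Finset.card_pos, h.card]; omega
        exact this
      have h2 := h.dvd ht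
      rw [← Subgroup.card_top, htop, Subgroup.card_bot] at h2
      exact (h.prime t ht).one_lt.ne' (Nat.dvd_one.1 h2)
    apply h1
    rw [fitting_one (s := 2) Nat.prime_two (fun t ht _ => hcon t ht)]
    exact hcon 2 Nat.prime_two
  have hp := hcoreσ p hpP hP1
  have hnP : ∀ t : ℕ, ∀ x : G, x ∈ normalizer ((BG.pCoreOf t (⊤ : Subgroup G) : Subgroup G) : Set G) :=
    fun t x => BG.le_normalizer_pCoreOf t ⊤ (Subgroup.mem_top x)
  by_cases hex : ∃ q : ℕ, q.Prime ∧ q ≠ p ∧ BG.pCoreOf q (⊤ : Subgroup G) ≠ ⊥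
  · obtain ⟨q, hqP, hqp, hQ1⟩ := hex
    have hq := hcoreσ q hqP hQ1
    have hoth : ∀ t : ℕ, t.Prime → t ≠ p → t ≠ q → BG.pCoreOf t (⊤ : Subgroup G) = ⊥ := by
      intro t ht htp htq
      by_contra hT
      have htσ := hcoreσ t ht hT
      obtain ⟨x, hx, hx1⟩ := exists_ne_one_of_ne_bot hP1
      obtain ⟨y, hy, hy1⟩ := exists_ne_one_of_ne_bot hQ1
      obtain ⟨z, hz, hz1⟩ := exists_ne_one_of_ne_bot hT
      exact h.comm3g hp hq htσ hqp.symm htq.symm htp.symm (PEl.of_mem (BG.pCoreOf_isPGroup p ⊤) hx hx1)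
        (PEl.of_mem (BG.pCoreOf_isPGroup q ⊤) hy hy1) (PEl.of_mem (BG.pCoreOf_isPGroup t ⊤) hz hz1)
        (core_commute hpP hqP hqp.symm hx hy) (core_commute hpP ht htp.symm hx hz)
        (core_commute hqP ht htq.symm hy hz)
    have hfit2 := fitting_two hpP hoth
    obtain ⟨H, hH⟩ := BG.exists_isPiHall (G := G) ({p, q}ᶜ : Set ℕ)
    have hpH : ¬ p ∣ Nat.card H := fun h1 => (hH.1 p hpP h1) (Or.inl rfl)
    have hqH : ¬ q ∣ Nat.card H := fun h1 => (hH.1 q hqP h1) (Or.inr rfl)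
    have B : Bi G σ p q (BG.pCoreOf p ⊤) (BG.pCoreOf q ⊤) H :=
      { four := h
        hp := hp
        hq := hq
        pq := hqp.symm
        P1 := hP1
        Q1 := hQ1
        Pp := BG.pCoreOf_isPGroup p ⊤
        Qq := BG.pCoreOf_isPGroup q ⊤
        PQ := fun x hx y hy => core_commute hpP hqP hqp.symm hx hy
        HP := fun x _ => hnP p x
        HQ := fun x _ => hnP q x
        faith := by
          intro x hx hx1 hx2
          have h1 : fittingOf (⊤ : Subgroup G) ≤ centralizer ({x} : Set G) :=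
            hfit2.trans (sup_le (fun y hy => mem_cent_iff.2 (mem_centralizer_iff.1 hx1 y hy).symm)
              (fun y hy => mem_cent_iff.2 (mem_centralizer_iff.1 hx2 y hy).symm))
          have h2 : x ∈ BG.pCoreOf p (⊤ : Subgroup G) ⊔ BG.pCoreOf q ⊤ := hfit2
            (BG.inf_centralizer_fittingOf_le (h.solv ⊤) ⟨Subgroup.mem_top x,
              mem_centralizer_iff.2 fun y hy => (mem_cent_iff.1 (h1 hy)).symm.eq⟩)
          have hcard := BG3.card_sup_dvd_mul' (A := BG.pCoreOf p (⊤ : Subgroup G)) (B := BG.pCoreOf q ⊤)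
            (fun y _ => hnP q y)
          have hcop : (Nat.card ↥(BG.pCoreOf p (⊤ : Subgroup G) ⊔ BG.pCoreOf q ⊤)).Coprime (Nat.card H) :=
            Nat.Coprime.coprime_dvd_left hcard (Nat.Coprime.mul_left
              (coprime_pgroup hpP (BG.pCoreOf_isPGroup p ⊤) hpH) (coprime_pgroup hqP (BG.pCoreOf_isPGroup q ⊤) hqH))
          exact Cop.eq_one_of_mem_of_mem hcop h2 hx
        pH := hpH
        qH := hqH
        idx := fun t ht htp htq => hH.2 t (h.prime t ht) (by
          rintro (h1 | h1)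
          · exact htp h1
          · exact htq h1) }
    exact B.false
  · push Not at hex
    have hf := fitting_one hpP (K := (⊤ : Subgroup G)) fun t ht htp => hex t ht htp
    obtain ⟨H, hH⟩ := BG.exists_isPiHall (G := G) ({p}ᶜ : Set ℕ)
    have hpH : ¬ p ∣ Nat.card H := fun h1 => (hH.1 p hpP h1) rfl
    have A : Act G σ p (BG.pCoreOf p ⊤) H :=
      { four := h
        hp := hp
        P1 := hP1
        Pp := BG.pCoreOf_isPGroup p ⊤
        HP := fun x _ => hnP p x
        faith := by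
          intro x hx hx1
          have h2 : x ∈ BG.pCoreOf p (⊤ : Subgroup G) := by
            rw [← hf]
            refine BG.inf_centralizer_fittingOf_le (h.solv ⊤) ⟨Subgroup.mem_top x, ?_⟩
            rw [hf]; exact hx1
          exact Cop.eq_one_of_mem_of_mem (coprime_pgroup hpP (BG.pCoreOf_isPGroup p ⊤) hpH) h2 hx
        pH := hpH
        idx := fun t ht htp => hH.2 t (h.prime t ht) htp }
    refine A.false fun K hK => BG.IsPiHall.exists_conj_ge hH fun t ht htd => ?_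
    rintro (rfl : t = p)
    exact hK htd

end Cfsg.Agent.H24J
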