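import Mathlib
import Cfsg.Agent.BG.PiHall
import Cfsg.Agent.BG.Core
import Cfsg.Agent.BG.P15Act
import Cfsg.Agent.BG3.Action
import Cfsg.Agent.BG3.Fit38
import Cfsg.Agent.Cop.GenAb
import Cfsg.Agent.S1545
import Cfsg.Agent.S3633

set_option autoImplicit false

/-! Four primes pairwise joined in a solvable group: tools. (owner: helper24) -/

namespace Cfsg.Agent.H24J

open Subgroup Cfsg
open scoped Pointwise commutatorElement

universe u
variable {G : Type u} [Group G] [Finite G]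

omit [Finite G] in
theorem exists_ne_one_of_ne_bot {B : Subgroup G} (h : B ≠ ⊥) : ∃ e ∈ B, e ≠ 1 := by
  by_contra hcon
  push Not at hcon
  exact h (eq_bot_iff.2 fun x hx => Subgroup.mem_bot.2 (hcon x hx))

omit [Finite G] in
theorem mem_sup_norm {A B : Subgroup G} (h : A ≤ normalizer (B : Set G)) {x : G} :
    x ∈ A ⊔ B ↔ ∃ y ∈ A, ∃ z ∈ B, y * z = x := by
  constructor
  · intro hx
    have : (x : G) ∈ ((A ⊔ B : Subgroup G) : Set G) := hx
    rw [Subgroup.sup_eq_closure_mul] at hx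
    refine Subgroup.closure_induction (p := fun x _ => ∃ y ∈ A, ∃ z ∈ B, y * z = x) ?_ ?_ ?_ ?_ hx
    · rintro x ⟨y, hy, z, hz, rfl⟩; exact ⟨y, hy, z, hz, rfl⟩
    · exact ⟨1, one_mem _, 1, one_mem _, mul_one 1⟩
    · rintro x y _ _ ⟨a, ha, b, hb, rfl⟩ ⟨c, hc, d, hd, rfl⟩
      refine ⟨a * c, A.mul_mem ha hc, (c⁻¹ * b * c) * d, B.mul_mem ?_ hd, by group⟩
      have := (mem_normalizer_iff.1 (h (A.inv_mem hc)) b).1 hb
      rwa [inv_inv] at this
    · rintro x _ ⟨a, ha, b, hb, rfl⟩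
      refine ⟨a⁻¹, A.inv_mem ha, a * b⁻¹ * a⁻¹, (mem_normalizer_iff.1 (h ha) _).1 (B.inv_mem hb), by group⟩
  · rintro ⟨y, hy, z, hz, rfl⟩
    exact mul_mem (mem_sup_left hy) (mem_sup_right hz)

/-- rank at most one at `t` -/
def Rk1 (t : ℕ) (T : Subgroup G) : Prop :=
  ∀ a ∈ T, ∀ b ∈ T, orderOf a = t → orderOf b = t → Commute a b → b ∈ zpowers a

omit [Finite G] in
theorem Rk1.mono {t : ℕ} {S T : Subgroup G} (h : S ≤ T) (hT : Rk1 t T) : Rk1 t S :=
  fun a ha b hb => hT a (h ha) b (h hb)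

omit [Finite G] in
theorem cent_zpowers (x : G) : centralizer (zpowers x : Set G) = centralizer ({x} : Set G) := by
  rw [zpowers_eq_closure, centralizer_closure]

omit [Finite G] in
theorem mem_cent_iff {x y : G} : y ∈ centralizer ({x} : Set G) ↔ Commute x y := by
  rw [mem_centralizer_singleton_iff]
  exact ⟨fun h => h.symm, fun h => Eq.symm h⟩

theorem zpowers_eq_of_prime {t : ℕ} (ht : t.Prime) {x e : G} (hx : orderOf x = t) (he : e ∈ zpowers x)
    (he1 : e ≠ 1) : x ∈ zpowers e := by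
  have h1 : zpowers e = zpowers x := by
    apply eq_of_le_of_card_ge (by rw [zpowers_le]; exact he)
    have h2 : Nat.card (zpowers e) ∣ t := by
      rw [← hx, ← Nat.card_zpowers]; exact card_dvd_of_le (by rw [zpowers_le]; exact he)
    rcases (Nat.dvd_prime ht).1 h2 with h3 | h3
    · rw [card_eq_one, zpowers_eq_bot] at h3
      exact absurd h3 he1
    · rw [h3, Nat.card_zpowers, hx]
  rw [h1]; exact mem_zpowers x

theorem zpowers_eq_of_order {t : ℕ} {x e : G} (hx : orderOf x = t) (hte : orderOf e = t) (he : e ∈ zpowers x) :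
    zpowers e = zpowers x := by
  apply eq_of_le_of_card_ge (by rw [zpowers_le]; exact he)
  rw [Nat.card_zpowers, Nat.card_zpowers, hx, hte]

omit [Finite G] in
theorem commute_of_mem_zpowers {x e y : G} (he : e ∈ zpowers x) (h : Commute x y) : Commute e y := by
  obtain ⟨n, rfl⟩ := mem_zpowers_iff.1 he
  exact h.zpow_left n

theorem cyclic_unique {t : ℕ} (ht : 0 < t) {a b c : G} (ha : a ∈ zpowers c) (hb : b ∈ zpowers c)
    (hao : orderOf a = t) (hbo : orderOf b = t) : b ∈ zpowers a := by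
  classical
  have : Fintype (zpowers c) := Fintype.ofFinite _
  have : Fintype (zpowers a) := Fintype.ofFinite _
  set S : Finset (zpowers c) := Finset.univ.filter (fun x => x ^ t = 1) with hS
  have hScard : S.card ≤ t := IsCyclic.card_pow_eq_one_le ht
  set T : Finset (zpowers c) := Finset.univ.filter (fun x => (x : G) ∈ zpowers a) with hT
  have hTS : T ⊆ S := by
    intro x hx
    rw [hT, Finset.mem_filter] at hx
    rw [hS, Finset.mem_filter]
    refine ⟨Finset.mem_univ _, Subtype.ext ?_⟩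
    obtain ⟨n, hn⟩ := mem_zpowers_iff.1 hx.2
    rw [Subgroup.coe_pow, ← hn, ← zpow_natCast, ← zpow_mul, mul_comm, zpow_mul, zpow_natCast, ← hao,
      pow_orderOf_eq_one, one_zpow]
    rfl
  have hTcard : T.card = t := by
    have h1 : T.card = Nat.card (zpowers a) := by
      rw [Nat.card_eq_fintype_card, ← Finset.card_univ]
      refine Finset.card_bij (fun x hx => (⟨(x : G), (Finset.mem_filter.1 hx).2⟩ : zpowers a)) ?_ ?_ ?_
      · intro x hx
        exact Finset.mem_univ _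
      · intro x _ y _ h
        exact Subtype.ext (Subtype.mk.inj h)
      · intro y _
        have hle : zpowers a ≤ zpowers c := by rw [zpowers_le]; exact ha
        exact ⟨⟨y, hle y.2⟩, by rw [hT, Finset.mem_filter]; exact ⟨Finset.mem_univ _, y.2⟩, rfl⟩
    rw [h1, Nat.card_zpowers, hao]
  have hTS' : T = S := Finset.eq_of_subset_of_card_le hTS (by rw [hTcard]; exact hScard)
  have hbS : (⟨b, hb⟩ : zpowers c) ∈ S := by
    rw [hS, Finset.mem_filter]
    refine ⟨Finset.mem_univ _, Subtype.ext ?_⟩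
    rw [Subgroup.coe_pow, ← hbo]
    exact pow_orderOf_eq_one b
  rw [← hTS', hT, Finset.mem_filter] at hbS
  exact hbS.2

/-- fixed points of a noncyclic subgroup. -/
theorem exists_fix {t : ℕ} (ht : t.Prime) {T M : Subgroup G} (hT : ¬ Rk1 t T)
    (hTM : T ≤ normalizer (M : Set G))
    (hM : M ≠ ⊥) (htM : ¬ t ∣ Nat.card M) :
    ∃ e ∈ T, orderOf e = t ∧ M ⊓ centralizer ({e} : Set G) ≠ ⊥ := by
  unfold Rk1 at hT
  push Not at hT
  obtain ⟨a, ha, b, hb, hao, hbo, hab, hba⟩ := hT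
  set A : Subgroup G := zpowers a ⊔ zpowers b with hAdef
  have hcen : zpowers a ≤ centralizer (zpowers b : Set G) := by
    rw [cent_zpowers, zpowers_le, mem_cent_iff]
    exact hab.symm
  have hmem : ∀ x ∈ A, ∃ i j : ℤ, x = a ^ i * b ^ j := by
    intro x hx
    obtain ⟨y, hy, z, hz, rfl⟩ := (mem_sup_norm (hcen.trans (centralizer_le_normalizer _))).1 hx
    obtain ⟨i, rfl⟩ := mem_zpowers_iff.1 hy
    obtain ⟨j, rfl⟩ := mem_zpowers_iff.1 hz
    exact ⟨i, j, rfl⟩
  have hA : IsMulCommutative A := by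
    constructor; constructor
    rintro ⟨x, hx⟩ ⟨y, hy⟩
    apply Subtype.ext
    obtain ⟨i, j, rfl⟩ := hmem x hx
    obtain ⟨k, l, rfl⟩ := hmem y hy
    show a ^ i * b ^ j * (a ^ k * b ^ l) = a ^ k * b ^ l * (a ^ i * b ^ j)
    have h1 : Commute (a ^ i * b ^ j) (a ^ k * b ^ l) := by
      apply Commute.mul_left
      · exact Commute.mul_right ((Commute.refl a).zpow_zpow i k) (hab.zpow_zpow i l)
      · exact Commute.mul_right (hab.symm.zpow_zpow j k) ((Commute.refl b).zpow_zpow j l)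
    exact h1
  have hAT : A ≤ T := sup_le (by rw [zpowers_le]; exact ha) (by rw [zpowers_le]; exact hb)
  have hcard : Nat.card A ∣ t * t := by
    have h1 := BG3.card_sup_dvd_mul' (hcen.trans (centralizer_le_normalizer _))
    rwa [Nat.card_zpowers, Nat.card_zpowers, hao, hbo] at h1
  have hcop : (Nat.card A).Coprime (Nat.card M) := by
    have h1 : t.Coprime (Nat.card M) := (Nat.Prime.coprime_iff_not_dvd ht).2 htM
    exact Nat.Coprime.coprime_dvd_left hcard (Nat.Coprime.mul_left h1 h1)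
  have hgen := Cop.le_genT hA _ M rfl (hAT.trans hTM) hcop
  have hex : ∃ B ∈ Cop.cycQuot A, M ⊓ centralizer (B : Set G) ≠ ⊥ := by
    by_contra hcon
    push Not at hcon
    apply hM
    rw [eq_bot_iff]
    refine hgen.trans (iSup₂_le fun B hB => ?_)
    rw [hcon B hB]
  obtain ⟨B, ⟨hBA, a', ha', hBa⟩, hB⟩ := hex
  have hB1 : B ≠ ⊥ := by
    rintro rfl
    rw [bot_sup_eq] at hBa
    have haz : a ∈ zpowers a' := by rw [hBa]; exact mem_sup_left (mem_zpowers a)
    have hbz : b ∈ zpowers a' := by rw [hBa]; exact mem_sup_right (mem_zpowers b)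
    apply hba
    exact cyclic_unique ht.pos haz hbz hao hbo
  obtain ⟨e, he, he1⟩ := exists_ne_one_of_ne_bot hB1
  have heA := hBA he
  refine ⟨e, hAT heA, ?_, ?_⟩
  · obtain ⟨i, j, hij⟩ := hmem e heA
    haveI : Fact t.Prime := ⟨ht⟩
    apply orderOf_eq_prime _ he1
    rw [hij, (hab.zpow_zpow i j).mul_pow, ← zpow_natCast, ← zpow_natCast, ← zpow_mul, ← zpow_mul, mul_comm i,
      mul_comm j, zpow_mul, zpow_mul, zpow_natCast, zpow_natCast, ← hao, pow_orderOf_eq_one, hao, ← hbo,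
      pow_orderOf_eq_one, one_zpow, one_zpow, mul_one]
  · intro h
    apply hB
    rw [eq_bot_iff, ← h]
    exact inf_le_inf_left _ (centralizer_le (by
      intro x hx
      rw [Set.mem_singleton_iff.1 hx]
      exact he))

/-! ### Frobenius actions -/

theorem frob {U E N : Subgroup G} (hE : E ≠ ⊥) (hEU : E ≤ normalizer (U : Set G))
    (hfpf : ∀ e ∈ E, e ≠ 1 → ∀ u ∈ U, e * u = u * e → u = 1)
    (hUN : U ≤ normalizer (N : Set G)) (hEN : E ≤ normalizer (N : Set G)) (hs : Group.IsSolvable N)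
    (hcU : (Nat.card N).Coprime (Nat.card U)) (hcE : (Nat.card N).Coprime (Nat.card E))
    (h : N ⊓ centralizer (E : Set G) = ⊥) : U ≤ centralizer (N : Set G) := by
  by_cases hU : U = ⊥
  · rw [hU]; exact bot_le
  have hdis : U ⊓ E = ⊥ := by
    rw [eq_bot_iff]
    rintro x ⟨hxU, hxE⟩
    rw [Subgroup.mem_bot]
    by_contra hx1
    exact hx1 (hfpf x hxE hx1 x hxU rfl)
  have hN : U ⊔ E ≤ normalizer (N : Set G) := sup_le hUN hEN
  have hcop : (Nat.card N).Coprime (Nat.card (U ⊔ E : Subgroup G)) := by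
    have h1 := BG3.card_sup_dvd_mul' hEU
    rw [sup_comm] at h1
    exact Nat.Coprime.coprime_dvd_right h1 (Nat.Coprime.mul_right hcE hcU)
  have key := Cfsg.Agent.S1545.result U E N hU hE hdis
    (fun e he u hu => (mem_normalizer_iff.1 (hEU he) u).1 hu) hfpf
    (fun x hx n hn => (mem_normalizer_iff.1 (hN hx) n).1 hn)
    (Cop.inf_eq_bot_of_coprime hcop) hs hcop
  have h1 : N ⊓ centralizer ((U ⊔ E : Subgroup G) : Set G) = ⊥ := by
    rw [eq_bot_iff, ← h]
    exact inf_le_inf_left _ (centralizer_le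
      (show (E : Set G) ⊆ ((U ⊔ E : Subgroup G) : Set G) from SetLike.coe_subset_coe.2 le_sup_right))
  rw [h1, h, card_bot, one_pow, one_mul, one_mul] at key
  have h2 : N ⊓ centralizer (U : Set G) = N := eq_of_le_of_card_ge inf_le_left (le_of_eq key)
  have h3 : N ≤ centralizer (U : Set G) := by rw [← h2]; exact inf_le_right
  exact Subgroup.le_centralizer_iff.1 h3

theorem frob1 {t : ℕ} (ht : t.Prime) {U N : Subgroup G} {x : G} (hx : orderOf x = t)
    (hxU : x ∈ normalizer (U : Set G)) (hfix : U ⊓ centralizer ({x} : Set G) = ⊥)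
    (hUN : U ≤ normalizer (N : Set G)) (hxN : x ∈ normalizer (N : Set G)) (hs : Group.IsSolvable N)
    (hcU : (Nat.card N).Coprime (Nat.card U)) (hct : ¬ t ∣ Nat.card N)
    (h : N ⊓ centralizer ({x} : Set G) = ⊥) : U ≤ centralizer (N : Set G) := by
  have hx1 : x ≠ 1 := by
    rintro rfl
    rw [orderOf_one] at hx
    exact ht.one_lt.ne hx
  refine frob (E := zpowers x) (by rw [Ne, zpowers_eq_bot]; exact hx1) (by rw [zpowers_le]; exact hxU) ?_ hUN
    (by rw [zpowers_le]; exact hxN) hs hcU ?_ (by rw [cent_zpowers]; exact h)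
  · intro e he he1 u hu hc
    have h1 : u ∈ U ⊓ centralizer ({x} : Set G) :=
      ⟨hu, mem_cent_iff.2 (commute_of_mem_zpowers (zpowers_eq_of_prime ht hx he he1) hc)⟩
    rw [hfix] at h1
    exact Subgroup.mem_bot.1 h1
  · rw [Nat.card_zpowers, hx]
    exact ((Nat.Prime.coprime_iff_not_dvd ht).2 hct).symm

theorem inverts {M : Subgroup G} {x : G} (hx : orderOf x = 2) (hxM : x ∈ normalizer (M : Set G))
    (h : M ⊓ centralizer ({x} : Set G) = ⊥) : ∀ m ∈ M, x * m * x⁻¹ = m⁻¹ := by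
  have hx2 : x * x = 1 := by rw [← pow_two, ← hx, pow_orderOf_eq_one]
  have hxi : x⁻¹ = x := by rw [inv_eq_iff_mul_eq_one, hx2]
  let f : M → M := fun m => ⟨(m : G)⁻¹ * (x * m * x⁻¹), M.mul_mem (M.inv_mem m.2) ((mem_normalizer_iff.1 hxM _).1 m.2)⟩
  have hinj : Function.Injective f := by
    intro m m' hmm
    have h1 : (m : G)⁻¹ * (x * m * x⁻¹) = (m' : G)⁻¹ * (x * m' * x⁻¹) := congrArg Subtype.val hmm
    have h2 : (m' : G) * (m : G)⁻¹ ∈ M ⊓ centralizer ({x} : Set G) := by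
      refine ⟨M.mul_mem m'.2 (M.inv_mem m.2), mem_cent_iff.2 ?_⟩
      have h3 : x * ((m' : G) * (m : G)⁻¹) * x⁻¹ = m' * (m : G)⁻¹ := by
        calc x * ((m' : G) * (m : G)⁻¹) * x⁻¹ = m' * ((m' : G)⁻¹ * (x * m' * x⁻¹)) * (x * m * x⁻¹)⁻¹ := by group
          _ = m' * ((m : G)⁻¹ * (x * m * x⁻¹)) * (x * m * x⁻¹)⁻¹ := by rw [h1]
          _ = m' * (m : G)⁻¹ := by group
      exact mul_inv_eq_iff_eq_mul.1 h3
    rw [h, Subgroup.mem_bot, mul_inv_eq_one] at h2
    exact Subtype.ext h2.symm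
  have hsur := Finite.surjective_of_injective hinj
  intro m hm
  obtain ⟨y, hy⟩ := hsur ⟨m, hm⟩
  have h1 : (y : G)⁻¹ * (x * y * x⁻¹) = m := congrArg Subtype.val hy
  rw [← h1, hxi]
  calc x * ((y : G)⁻¹ * (x * y * x)) * x = x * (y : G)⁻¹ * x * y * (x * x) := by group
    _ = ((y : G)⁻¹ * (x * y * x))⁻¹ := by rw [hx2, mul_inv_rev, mul_inv_rev, mul_inv_rev, hxi]; group

/-- BG 3.4 for all primes. -/
theorem hh {t : ℕ} (ht : t.Prime) {K M : Subgroup G} {x : G} (hx : orderOf x = t)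
    (hK : Group.IsSolvable K) (hodd : Odd (Nat.card K))
    (hxK : x ∈ normalizer (K : Set G)) (hKM : K ≤ normalizer (M : Set G)) (hxM : x ∈ normalizer (M : Set G))
    (hM : Group.IsSolvable M) (hKM' : (Nat.card K).Coprime (Nat.card M)) (htK : ¬ t ∣ Nat.card K)
    (htM : ¬ t ∣ Nat.card M)
    (h : M ⊓ centralizer ({x} : Set G) = ⊥) : ∀ k ∈ K, ⁅k, x⁆ ∈ centralizer (M : Set G) := by
  intro k hk
  by_cases h2 : t = 2
  · subst h2
    have hinv := inverts hx hxM h
    rw [mem_centralizer_iff]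
    intro m hm
    have hx2 : x * x = 1 := by rw [← pow_two, ← hx, pow_orderOf_eq_one]
    have hxi : x⁻¹ = x := by rw [inv_eq_iff_mul_eq_one, hx2]
    have h3 : k⁻¹ * m * k ∈ M := by
      have := (mem_normalizer_iff.1 (hKM (K.inv_mem hk)) m).1 hm
      rwa [inv_inv] at this
    -- `k x k⁻¹ x⁻¹ m = m k x k⁻¹ x⁻¹`
    have h4 : x * m⁻¹ * x⁻¹ = m := by rw [hinv _ (M.inv_mem hm), inv_inv]
    have h5 : x * (k⁻¹ * m * k)⁻¹ * x⁻¹ = k⁻¹ * m * k := by rw [hinv _ (M.inv_mem h3), inv_inv]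
    rw [commutatorElement_def]
    calc m * (k * x * k⁻¹ * x⁻¹) = k * (k⁻¹ * m * k) * x * k⁻¹ * x⁻¹ := by group
      _ = k * (x * (k⁻¹ * m * k)⁻¹ * x⁻¹) * x * k⁻¹ * x⁻¹ := by rw [h5]
      _ = k * x * k⁻¹ * m⁻¹ * x⁻¹ := by group
      _ = k * x * k⁻¹ * x⁻¹ * (x * m⁻¹ * x⁻¹) := by group
      _ = k * x * k⁻¹ * x⁻¹ * m := by rw [h4]
  · have hz : zpowers x ≤ normalizer (K : Set G) := by rw [zpowers_le]; exact hxK
    have hRc : Nat.card (zpowers x) = t := by rw [Nat.card_zpowers, hx]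
    have hcop : (Nat.card ↥(K ⊔ zpowers x)).Coprime (Nat.card M) := by
      have h1 := BG3.card_sup_dvd_mul' hz
      rw [sup_comm, hRc] at h1
      exact Nat.Coprime.coprime_dvd_left h1 (Nat.Coprime.mul_left ((Nat.Prime.coprime_iff_not_dvd ht).2 htM) hKM')
    have := BG3.commutator_le_centralizer (K := K) (R := zpowers x) (M := M) hz ht h2 hRc
      ((Nat.Prime.coprime_iff_not_dvd ht).2 htK).symm hodd hK hKM (by rw [zpowers_le]; exact hxM) hM hcop
      (by rw [cent_zpowers]; exact h)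
    exact this (commutator_mem_commutator hk (mem_zpowers x))

/-! ### `t`-groups -/

theorem exists_central {t : ℕ} (ht : t.Prime) {T : Subgroup G} (hT : IsPGroup t T) (hT1 : T ≠ ⊥) :
    ∃ z ∈ T, orderOf z = t ∧ ∀ y ∈ T, Commute z y := by
  haveI : Fact t.Prime := ⟨ht⟩
  haveI : Nontrivial T := (Subgroup.nontrivial_iff_ne_bot T).2 hT1
  haveI := hT.center_nontrivial
  have hc : IsPGroup t (center T) := hT.to_subgroup _
  obtain ⟨n, hn0, hn⟩ := hc.nontrivial_iff_card.1 inferInstance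
  have hdvd : t ∣ Nat.card (center T) := by rw [hn]; exact dvd_pow_self t hn0.ne'
  obtain ⟨z, hz⟩ := exists_prime_orderOf_dvd_card' t hdvd
  refine ⟨((z : T) : G), (z : T).2, by rw [Subgroup.orderOf_coe, Subgroup.orderOf_coe, hz], ?_⟩
  intro y hy
  have := Subgroup.mem_center_iff.1 z.2 ⟨y, hy⟩
  exact (congrArg Subtype.val this).symm

theorem exists_unique_sub {t : ℕ} (ht : t.Prime) {T : Subgroup G} (hT : IsPGroup t T) (hT1 : T ≠ ⊥)
    (hr : Rk1 t T) : ∃ z ∈ T, orderOf z = t ∧ (∀ y ∈ T, Commute z y) ∧ ∀ y ∈ T, orderOf y = t → y ∈ zpowers z := by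
  obtain ⟨z, hz, hzo, hzc⟩ := exists_central ht hT hT1
  exact ⟨z, hz, hzo, hzc, fun y hy hyo => hr z hz y hy hzo hyo (hzc y hy)⟩

theorem partner {t : ℕ} (ht : t.Prime) {T : Subgroup G} (hT : IsPGroup t T) (hr : ¬ Rk1 t T) {b : G}
    (hb : b ∈ T) (hbo : orderOf b = t) : ∃ u ∈ T, orderOf u = t ∧ Commute b u ∧ u ∉ zpowers b := by
  have hT1 : T ≠ ⊥ := by
    rintro rfl
    rw [Subgroup.mem_bot.1 hb, orderOf_one] at hbo
    exact ht.one_lt.ne hbo
  obtain ⟨z, hz, hzo, hzc⟩ := exists_central ht hT hT1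
  by_cases hzb : z ∈ zpowers b
  · unfold Rk1 at hr
    push Not at hr
    obtain ⟨a1, h1, a2, h2, ho1, ho2, hc, hn⟩ := hr
    have hbz : b ∈ zpowers z := by
      rw [zpowers_eq_of_order hbo hzo hzb]; exact mem_zpowers b
    by_cases h3 : a1 ∈ zpowers b
    · refine ⟨a2, h2, ho2, commute_of_mem_zpowers hbz (hzc a2 h2), fun h4 => hn ?_⟩
      rw [zpowers_eq_of_order hbo ho1 h3]; exact h4
    · exact ⟨a1, h1, ho1, commute_of_mem_zpowers hbz (hzc a1 h1), h3⟩
  · exact ⟨z, hz, hzo, (hzc b hb).symm, hzb⟩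

omit [Finite G] in
theorem normalizes_zpowers {t : ℕ} {T : Subgroup G} {z x : G} (hzT : z ∈ T) (hz : orderOf z = t)
    (hu : ∀ y ∈ T, orderOf y = t → y ∈ zpowers z) (hx : x ∈ normalizer (T : Set G)) :
    x ∈ normalizer (zpowers z : Set G) := by
  have key : ∀ x ∈ normalizer (T : Set G), ∀ w ∈ zpowers z, x * w * x⁻¹ ∈ zpowers z := by
    intro x hx w hw
    have h1 : x * z * x⁻¹ ∈ zpowers z := by
      apply hu _ ((mem_normalizer_iff.1 hx z).1 hzT)
      rw [← hz]
      exact orderOf_injective (MulAut.conj x).toMonoidHom (MulAut.conj x).injective z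
    obtain ⟨n, rfl⟩ := mem_zpowers_iff.1 hw
    rw [← conj_zpow]
    exact zpow_mem h1 n
  rw [mem_normalizer_iff]
  intro w
  refine ⟨key x hx w, fun h => ?_⟩
  have := key x⁻¹ (inv_mem hx) _ h
  have e : x⁻¹ * (x * w * x⁻¹) * x⁻¹⁻¹ = w := by group
  rwa [e] at this

/-! ### the configuration -/

/-- a solvable `σ`-group, `|σ| = 4`, any two primes joined, no three. -/
structure Four (G : Type u) [Group G] (σ : Finset ℕ) : Prop where
  sol : Group.IsSolvable G
  card : σ.card = 4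
  prime : ∀ p ∈ σ, p.Prime
  sub : ∀ t, t.Prime → t ∣ Nat.card G → t ∈ σ
  edge : ∀ p ∈ σ, ∀ q ∈ σ, p ≠ q → ∃ g : G, orderOf g = p * q
  tri : ∀ p ∈ σ, ∀ q ∈ σ, ∀ r ∈ σ, p ≠ q → q ≠ r → p ≠ r → ∀ g : G, orderOf g ≠ p * q * r

variable {σ : Finset ℕ}

omit [Finite G] in
theorem Four.comm3 (h : Four G σ) {p q r : ℕ} (hp : p ∈ σ) (hq : q ∈ σ) (hr : r ∈ σ) (hpq : p ≠ q) (hqr : q ≠ r)
    (hpr : p ≠ r) {a b c : G} (ha : orderOf a = p) (hb : orderOf b = q) (hc : orderOf c = r)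
    (hab : Commute a b) (hac : Commute a c) (hbc : Commute b c) : False := by
  have h1 : orderOf (a * b) = p * q := by
    rw [hab.orderOf_mul_eq_mul_orderOf_of_coprime, ha, hb]
    rw [ha, hb]
    exact (Nat.coprime_primes (h.prime p hp) (h.prime q hq)).2 hpq
  have h2 : orderOf (a * b * c) = p * q * r := by
    rw [(hac.mul_left hbc).orderOf_mul_eq_mul_orderOf_of_coprime, h1, hc]
    rw [h1, hc]
    exact Nat.Coprime.mul_left ((Nat.coprime_primes (h.prime p hp) (h.prime r hr)).2 hpr)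
      ((Nat.coprime_primes (h.prime q hq) (h.prime r hr)).2 hqr)
  exact h.tri p hp q hq r hr hpq hqr hpr _ h2

omit [Finite G] in
theorem Four.edge2 (h : Four G σ) {p q : ℕ} (hp : p ∈ σ) (hq : q ∈ σ) (hpq : p ≠ q) :
    ∃ a b : G, orderOf a = p ∧ orderOf b = q ∧ Commute a b := by
  obtain ⟨g, hg⟩ := h.edge p hp q hq hpq
  have hp0 := (h.prime p hp).pos
  have hq0 := (h.prime q hq).pos
  refine ⟨g ^ q, g ^ p, ?_, ?_, (Commute.refl g).pow_pow q p⟩
  · rw [orderOf_pow_of_dvd hq0.ne' (by rw [hg]; exact dvd_mul_left q p), hg, Nat.mul_div_cancel _ hq0]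
  · rw [orderOf_pow_of_dvd hp0.ne' (by rw [hg]; exact dvd_mul_right p q), hg, Nat.mul_div_cancel_left _ hp0]

theorem Four.three_cent (h : Four G σ) {t : ℕ} (ht : t ∈ σ) {z : G} (hz : orderOf z = t)
    (hall : ∀ x ∈ σ, x ≠ t → ∃ w : G, orderOf w = x ∧ Commute z w) : False := by
  classical
  have hC : Group.IsSolvable (centralizer ({z} : Set G)) := by
    haveI := h.sol
    exact Group.isSolvable_of_isSolvable_injective (f := (centralizer ({z} : Set G)).subtype) Subtype.val_injective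
  refine (Cfsg.Agent.S3633.result (G := centralizer ({z} : Set G)) (σ.erase t)
    (by rw [Finset.card_erase_of_mem ht, h.card]) ⟨?_, ?_⟩ ⊥ inferInstance).2 hC
  · intro x hx
    have hxσ := Finset.mem_of_mem_erase hx
    refine ⟨h.prime x hxσ, ?_⟩
    obtain ⟨w, hw, hc⟩ := hall x hxσ (Finset.ne_of_mem_erase hx)
    have h1 : orderOf (⟨w, mem_cent_iff.2 hc⟩ : centralizer ({z} : Set G)) = x := by
      rw [← Subgroup.orderOf_coe]; exact hw
    rw [← h1]
    exact orderOf_dvd_natCard _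
  · rintro x hx y hy hxy ⟨g, hg⟩
    have hxσ := Finset.mem_of_mem_erase hx
    have hyσ := Finset.mem_of_mem_erase hy
    have hgc : Commute z (g : G) := mem_cent_iff.1 g.2
    have h1 : orderOf (g : G) = x * y := by rw [Subgroup.orderOf_coe]; exact hg
    apply h.tri x hxσ y hyσ t ht hxy (Finset.ne_of_mem_erase hy) (Finset.ne_of_mem_erase hx) ((g : G) * z)
    rw [hgc.symm.orderOf_mul_eq_mul_orderOf_of_coprime, h1, hz]
    rw [h1, hz]
    exact Nat.Coprime.mul_left ((Nat.coprime_primes (h.prime x hxσ) (h.prime t ht)).2 (Finset.ne_of_mem_erase hx))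
      ((Nat.coprime_primes (h.prime y hyσ) (h.prime t ht)).2 (Finset.ne_of_mem_erase hy))

theorem exists_sylow_le {t : ℕ} (ht : t.Prime) {Y : Subgroup G} (hY : ¬ t ∣ Y.index) :
    ∃ T : Sylow t G, (T : Subgroup G) ≤ Y := by
  haveI : Fact t.Prime := ⟨ht⟩
  obtain ⟨P0⟩ : Nonempty (Sylow t Y) := inferInstance
  have hcard : Nat.card ((P0 : Subgroup Y).map Y.subtype) = t ^ (Nat.card G).factorization t := by
    rw [Cop.card_map_subtype, P0.card_eq_multiplicity, ← Y.card_mul_index,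
      Nat.factorization_mul Nat.card_pos.ne' Subgroup.index_ne_zero_of_finite, Finsupp.add_apply,
      Nat.factorization_eq_zero_of_not_dvd hY, add_zero]
  exact ⟨Sylow.ofCard _ hcard, by
    rw [Sylow.coe_ofCard]; exact Subgroup.map_subtype_le _⟩

theorem Four.dvd (h : Four G σ) {t : ℕ} (ht : t ∈ σ) : t ∣ Nat.card G := by
  obtain ⟨x, hx, hxt⟩ : ∃ x ∈ σ, x ≠ t := by
    by_contra hcon
    push Not at hcon
    have h1 : σ ⊆ {t} := fun x hx => Finset.mem_singleton.2 (hcon x hx)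
    have h2 := Finset.card_le_card h1
    rw [h.card, Finset.card_singleton] at h2
    omega
  obtain ⟨a, b, ha, -, -⟩ := h.edge2 ht hx hxt.symm
  rw [← ha]; exact orderOf_dvd_natCard a

theorem Four.not_rk1 (h : Four G σ) {t : ℕ} (ht : t ∈ σ) {Y : Subgroup G} (hY : ¬ t ∣ Y.index) : ¬ Rk1 t Y := by
  intro hr
  have htp := h.prime t ht
  haveI : Fact t.Prime := ⟨htp⟩
  obtain ⟨T, hT⟩ := exists_sylow_le htp hY
  have hT1 : (T : Subgroup G) ≠ ⊥ := T.ne_bot_of_dvd_card (h.dvd ht)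
  obtain ⟨z, hz, hzo, hzc, hu⟩ := exists_unique_sub htp T.isPGroup' hT1 (hr.mono hT)
  refine h.three_cent ht hzo fun x hx hxt => ?_
  obtain ⟨a, b, ha, hb, hab⟩ := h.edge2 ht hx hxt.symm
  have hapg : IsPGroup t (zpowers a) := IsPGroup.of_card (n := 1) (by rw [Nat.card_zpowers, ha, pow_one])
  obtain ⟨Q, hQ⟩ := hapg.exists_le_sylow
  obtain ⟨g, hg⟩ := MulAction.exists_smul_eq G Q T
  have h1 : g * a * g⁻¹ ∈ (T : Subgroup G) := by
    rw [← hg, Sylow.coe_subgroup_smul]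
    exact ⟨a, hQ (mem_zpowers a), rfl⟩
  have hco : ∀ y : G, orderOf (g * y * g⁻¹) = orderOf y := fun y =>
    orderOf_injective (MulAut.conj g).toMonoidHom (MulAut.conj g).injective y
  have h2 : g * a * g⁻¹ ∈ zpowers z := hu _ h1 (by rw [hco, ha])
  refine ⟨g * b * g⁻¹, by rw [hco, hb], ?_⟩
  have h3 : z ∈ zpowers (g * a * g⁻¹) := by
    apply zpowers_eq_of_prime htp hzo h2
    intro h4
    have h5 := hco a
    rw [h4, orderOf_one, ha] at h5
    exact htp.one_lt.ne h5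
  refine commute_of_mem_zpowers h3 ?_
  show g * a * g⁻¹ * (g * b * g⁻¹) = g * b * g⁻¹ * (g * a * g⁻¹)
  calc g * a * g⁻¹ * (g * b * g⁻¹) = g * (a * b) * g⁻¹ := by group
    _ = g * (b * a) * g⁻¹ := by rw [hab.eq]
    _ = g * b * g⁻¹ * (g * a * g⁻¹) := by group

end Cfsg.Agent.H24J
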