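import Cfsg.Agent.H24J.Base
import Cfsg.Agent.H91.CoprimeAb
import Cfsg.Agent.MaxClass.UniqueOrderP

set_option autoImplicit false

/-! Four primes pairwise joined in a solvable group: more tools. (owner: helper24) -/

namespace Cfsg.Agent.H24J

open Subgroup Cfsg
open scoped Pointwise commutatorElement

universe u
variable {G : Type u} [Group G]

/-- nontrivial `p`-element -/
def PEl (p : ℕ) (u : G) : Prop := u ≠ 1 ∧ ∃ k : ℕ, u ^ p ^ k = 1

theorem PEl.of_mem {p : ℕ} {U : Subgroup G} (hU : IsPGroup p U) {u : G} (hu : u ∈ U) (h1 : u ≠ 1) : PEl p u :=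
  ⟨h1, by obtain ⟨k, hk⟩ := hU ⟨u, hu⟩; exact ⟨k, congrArg Subtype.val hk⟩⟩

theorem ne_one_of_order {p : ℕ} (hp : p.Prime) {u : G} (ho : orderOf u = p) : u ≠ 1 := by
  rintro rfl
  rw [orderOf_one] at ho
  exact hp.one_lt.ne ho

theorem PEl.of_order {p : ℕ} (hp : p.Prime) {u : G} (ho : orderOf u = p) : PEl p u :=
  ⟨ne_one_of_order hp ho, 1, by rw [pow_one, ← ho, pow_orderOf_eq_one]⟩

theorem PEl.exists_pow {p : ℕ} (hp : p.Prime) {u : G} (h : PEl p u) : ∃ n : ℕ, orderOf (u ^ n) = p := by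
  obtain ⟨h1, k, hk⟩ := h
  obtain ⟨j, -, hj⟩ := (Nat.dvd_prime_pow hp).1 (orderOf_dvd_of_pow_eq_one hk)
  rcases j with _ | j
  · rw [pow_zero, orderOf_eq_one_iff] at hj
    exact absurd hj h1
  · refine ⟨p ^ j, ?_⟩
    rw [orderOf_pow_of_dvd (pow_pos hp.pos j).ne' (by rw [hj]; exact pow_dvd_pow p (Nat.le_succ j)), hj,
      pow_succ, Nat.mul_div_cancel_left _ (pow_pos hp.pos j)]

variable {σ : Finset ℕ}

theorem Four.comm3g (h : Four G σ) {p q r : ℕ} (hp : p ∈ σ) (hq : q ∈ σ) (hr : r ∈ σ) (hpq : p ≠ q) (hqr : q ≠ r)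
    (hpr : p ≠ r) {a b c : G} (ha : PEl p a) (hb : PEl q b) (hc : PEl r c)
    (hab : Commute a b) (hac : Commute a c) (hbc : Commute b c) : False := by
  obtain ⟨i, hi⟩ := ha.exists_pow (h.prime p hp)
  obtain ⟨j, hj⟩ := hb.exists_pow (h.prime q hq)
  obtain ⟨k, hk⟩ := hc.exists_pow (h.prime r hr)
  exact h.comm3 hp hq hr hpq hqr hpr hi hj hk (hab.pow_pow i j) (hac.pow_pow i k) (hbc.pow_pow j k)

theorem Four.solv (h : Four G σ) (K : Subgroup G) : Group.IsSolvable K := by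
  haveI := h.sol
  exact Group.isSolvable_of_isSolvable_injective (f := K.subtype) Subtype.val_injective

theorem norm_cent {A K : Subgroup G} (h : A ≤ normalizer (K : Set G)) :
    A ≤ normalizer ((centralizer (K : Set G) : Subgroup G) : Set G) := by
  have key : ∀ a ∈ A, ∀ x ∈ centralizer (K : Set G), a * x * a⁻¹ ∈ centralizer (K : Set G) := by
    intro a ha x hx
    rw [mem_centralizer_iff] at hx ⊢
    intro k hk
    have h1 : a⁻¹ * k * a ∈ K := by
      have := (mem_normalizer_iff.1 (h (A.inv_mem ha)) k).1 hk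
      rwa [inv_inv] at this
    have h2 := hx _ h1
    calc k * (a * x * a⁻¹) = a * ((a⁻¹ * k * a) * x) * a⁻¹ := by group
      _ = a * (x * (a⁻¹ * k * a)) * a⁻¹ := by rw [h2]
      _ = a * x * a⁻¹ * k := by group
  intro a ha
  rw [mem_normalizer_iff]
  intro x
  refine ⟨key a ha x, fun hx => ?_⟩
  have := key a⁻¹ (A.inv_mem ha) _ hx
  have e : a⁻¹ * (a * x * a⁻¹) * a⁻¹⁻¹ = x := by group
  rwa [e] at this

theorem norm_inf {A M N : Subgroup G} (h : A ≤ normalizer (M : Set G)) (h' : A ≤ normalizer (N : Set G)) :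
    A ≤ normalizer ((M ⊓ N : Subgroup G) : Set G) := by
  intro a ha
  rw [mem_normalizer_iff]
  intro x
  rw [Subgroup.mem_inf, Subgroup.mem_inf, mem_normalizer_iff.1 (h ha) x, mem_normalizer_iff.1 (h' ha) x]

theorem norm_fix' {A M : Subgroup G} {x : G} (h : A ≤ normalizer (M : Set G))
    (hx : A ≤ normalizer (zpowers x : Set G)) :
    A ≤ normalizer ((M ⊓ centralizer ({x} : Set G) : Subgroup G) : Set G) := by
  rw [← cent_zpowers]
  exact norm_inf h (norm_cent hx)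

theorem norm_zpowers_of_commute {A : Subgroup G} {x : G} (hx : ∀ a ∈ A, Commute x a) :
    A ≤ normalizer (zpowers x : Set G) := by
  refine le_trans ?_ (centralizer_le_normalizer _)
  rw [cent_zpowers]
  exact fun a ha => mem_cent_iff.2 (hx a ha)

theorem norm_fix {A M : Subgroup G} {x : G} (h : A ≤ normalizer (M : Set G)) (hx : ∀ a ∈ A, Commute x a) :
    A ≤ normalizer ((M ⊓ centralizer ({x} : Set G) : Subgroup G) : Set G) :=
  norm_fix' h (norm_zpowers_of_commute hx)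

theorem fix_bot {M : Subgroup G} {x : G} (h : ∀ u ∈ M, Commute x u → u = 1) :
    M ⊓ centralizer ({x} : Set G) = ⊥ := by
  rw [eq_bot_iff]
  rintro u ⟨hu, hu'⟩
  exact Subgroup.mem_bot.2 (h u hu (mem_cent_iff.1 hu'))

theorem of_fix_bot {M : Subgroup G} {x : G} (h : M ⊓ centralizer ({x} : Set G) = ⊥) {u : G} (hu : u ∈ M)
    (hc : Commute x u) : u = 1 := by
  have : u ∈ M ⊓ centralizer ({x} : Set G) := ⟨hu, mem_cent_iff.2 hc⟩
  rw [h] at this
  exact Subgroup.mem_bot.1 this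

theorem exists_of_fix {M : Subgroup G} {x : G} (h : M ⊓ centralizer ({x} : Set G) ≠ ⊥) :
    ∃ u ∈ M, u ≠ 1 ∧ Commute x u := by
  obtain ⟨u, hu, hu1⟩ := exists_ne_one_of_ne_bot h
  exact ⟨u, hu.1, hu1, mem_cent_iff.1 hu.2⟩

variable [Finite G]

theorem rk1_of_fpf {t : ℕ} (ht : t.Prime) {T M : Subgroup G} (hTM : T ≤ normalizer (M : Set G))
    (hM : M ≠ ⊥) (htM : ¬ t ∣ Nat.card M)
    (h : ∀ e ∈ T, orderOf e = t → M ⊓ centralizer ({e} : Set G) = ⊥) : Rk1 t T := by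
  by_contra hr
  obtain ⟨e, he, heo, hne⟩ := exists_fix ht hr hTM hM htM
  exact hne (h e he heo)

theorem not_dvd_pgroup {p t : ℕ} (hp : p.Prime) (ht : t.Prime) (hpt : t ≠ p) {P : Subgroup G} (hP : IsPGroup p P) :
    ¬ t ∣ Nat.card P := by
  intro h
  haveI : Fact p.Prime := ⟨hp⟩
  obtain ⟨n, hn⟩ := IsPGroup.iff_card.1 hP
  rw [hn] at h
  exact hpt ((Nat.prime_dvd_prime_iff_eq ht hp).1 (ht.dvd_of_dvd_pow h))

theorem coprime_pgroup {p : ℕ} (hp : p.Prime) {P K : Subgroup G} (hP : IsPGroup p P) (hK : ¬ p ∣ Nat.card K) :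
    (Nat.card P).Coprime (Nat.card K) := by
  haveI : Fact p.Prime := ⟨hp⟩
  obtain ⟨n, hn⟩ := IsPGroup.iff_card.1 hP
  rw [hn]
  exact Nat.Coprime.pow_left n ((Nat.Prime.coprime_iff_not_dvd hp).2 hK)

theorem not_dvd_of_le {t : ℕ} {K H : Subgroup G} (h : K ≤ H) (ht : ¬ t ∣ Nat.card H) : ¬ t ∣ Nat.card K :=
  fun h1 => ht (h1.trans (card_dvd_of_le h))

omit [Finite G] in
theorem pgroup_zpowers {p : ℕ} {x : G} (hx : orderOf x = p) : IsPGroup p (zpowers x) :=
  IsPGroup.of_card (n := 1) (by rw [Nat.card_zpowers, hx, pow_one])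

/-- an element of order `r` acting nontrivially on a group of order `s`. -/
theorem dvd_pred {r s : ℕ} (hr : r.Prime) (hs : s.Prime) {x c : G} (hx : orderOf x = r) (hc : orderOf c = s)
    (hn : x ∈ normalizer (zpowers c : Set G)) (hnc : ¬ Commute x c) : r ∣ s - 1 := by
  let f := (zpowers c).normalizerMonoidHom
  have h1 : (f ⟨x, hn⟩) ^ r = 1 := by
    rw [← map_pow]
    have : (⟨x, hn⟩ : normalizer (zpowers c : Set G)) ^ r = 1 := by
      apply Subtype.ext
      rw [Subgroup.coe_pow, ← hx]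
      exact pow_orderOf_eq_one x
    rw [this, map_one]
  have h2 : f ⟨x, hn⟩ ≠ 1 := by
    intro h
    apply hnc
    have h3 := DFunLike.congr_fun h ⟨c, mem_zpowers c⟩
    have h4 : x * c * x⁻¹ = c := congrArg Subtype.val h3
    exact mul_inv_eq_iff_eq_mul.1 h4
  haveI : Fact r.Prime := ⟨hr⟩
  have h3 : orderOf (f ⟨x, hn⟩) = r := orderOf_eq_prime h1 h2
  have h4 : Nat.card (MulAut (zpowers c)) = s - 1 := by
    rw [IsCyclic.card_mulAut, Nat.card_zpowers, hc, Nat.totient_prime hs]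
  rw [← h3, ← h4]
  exact orderOf_dvd_natCard _

omit [Finite G] in
theorem comm_cyclic {g x y : G} (hx : x ∈ normalizer (zpowers g : Set G)) (hy : y ∈ normalizer (zpowers g : Set G)) :
    ⁅x, y⁆ ∈ centralizer (zpowers g : Set G) := by
  obtain ⟨a, ha⟩ := mem_zpowers_iff.1 ((mem_normalizer_iff.1 hx g).1 (mem_zpowers g))
  obtain ⟨b, hb⟩ := mem_zpowers_iff.1 ((mem_normalizer_iff.1 hy g).1 (mem_zpowers g))
  have h1 : ∀ w ∈ zpowers g, x * y * w * (x * y)⁻¹ = y * x * w * (y * x)⁻¹ := by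
    intro w hw
    obtain ⟨n, rfl⟩ := mem_zpowers_iff.1 hw
    have e1 : x * y * g ^ n * (x * y)⁻¹ = (g ^ (a * b)) ^ n := by
      calc x * y * g ^ n * (x * y)⁻¹ = x * (y * g * y⁻¹) ^ n * x⁻¹ := by rw [conj_zpow]; group
        _ = ((x * g * x⁻¹) ^ b) ^ n := by rw [← hb, ← conj_zpow, ← conj_zpow]
        _ = (g ^ (a * b)) ^ n := by rw [← ha, zpow_mul g a b]
    have e2 : y * x * g ^ n * (y * x)⁻¹ = (g ^ (a * b)) ^ n := by
      calc y * x * g ^ n * (y * x)⁻¹ = y * (x * g * x⁻¹) ^ n * y⁻¹ := by rw [conj_zpow]; group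
        _ = ((y * g * y⁻¹) ^ a) ^ n := by rw [← ha, ← conj_zpow, ← conj_zpow]
        _ = (g ^ (a * b)) ^ n := by rw [← hb, mul_comm a b, zpow_mul g b a]
    rw [e1, e2]
  rw [cent_zpowers, mem_cent_iff]
  have h2 : (y * x)⁻¹ * g * (y * x) ∈ zpowers g := by
    have h3 : (y * x)⁻¹ ∈ normalizer (zpowers g : Set G) := inv_mem (mul_mem hy hx)
    have := (mem_normalizer_iff.1 h3 g).1 (mem_zpowers g)
    rwa [inv_inv] at this
  have h3 := h1 _ h2
  have h4 : x * y * ((y * x)⁻¹ * g * (y * x)) * (x * y)⁻¹ = g := by rw [h3]; group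
  show g * ⁅x, y⁆ = ⁅x, y⁆ * g
  calc g * ⁅x, y⁆ = x * y * ((y * x)⁻¹ * g * (y * x)) * (x * y)⁻¹ * ⁅x, y⁆ := by rw [h4]
    _ = ⁅x, y⁆ * g := by rw [commutatorElement_def]; group

theorem cyclic_of_rk1 {t : ℕ} (ht : t.Prime) (ht2 : t ≠ 2) {T : Subgroup G} (hT : IsPGroup t T) (hr : Rk1 t T) :
    ∃ g : G, zpowers g = T := by
  haveI : Fact t.Prime := ⟨ht⟩
  by_cases hT1 : T = ⊥
  · exact ⟨1, by rw [hT1, zpowers_one_eq_bot]⟩
  obtain ⟨z, hz, hzo, hzc, hu⟩ := exists_unique_sub ht hT hT1 hr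
  have key : ∀ H : Subgroup T, Nat.card H = t → H.map T.subtype = zpowers z := by
    intro H hH
    have hHt : t ∣ Nat.card H := by rw [hH]
    obtain ⟨x, hx⟩ := exists_prime_orderOf_dvd_card' t hHt
    have hxo : orderOf ((x : T) : G) = t := by rw [Subgroup.orderOf_coe, Subgroup.orderOf_coe, hx]
    have h1 := hu _ (x : T).2 hxo
    have h2 := zpowers_eq_of_order hzo hxo h1
    rw [← h2]
    symm
    apply eq_of_le_of_card_ge
    · rw [zpowers_le]
      exact ⟨(x : T), x.2, rfl⟩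
    · rw [Cop.card_map_subtype, hH, Nat.card_zpowers, hxo]
  rcases Cfsg.Agent.MaxClass.cyclic_or_quaternion (G := T) hT (fun H K hH hK => by
    apply Subgroup.map_injective T.subtype_injective
    rw [key H hH, key K hK]) with h | h
  · obtain ⟨g, hg⟩ := (Subgroup.isCyclic_iff_exists_zpowers_eq_top T).1 h
    exact ⟨g, hg⟩
  · exact absurd h.1 ht2

/-- coprime action on an abelian group. -/
theorem ab_fix {V A : Subgroup G} (hV : IsMulCommutative V) (hA : A ≤ normalizer (V : Set G))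
    (hcop : (Nat.card A).Coprime (Nat.card V)) : ⁅V, A⁆ ⊓ centralizer (A : Set G) = ⊥ := by
  haveI := hV
  obtain ⟨h1, -⟩ := Cfsg.Agent.H91.abelian_decomp A V hA hcop
  rw [eq_bot_iff, ← h1]
  exact le_inf (le_inf (inf_le_left.trans (le_normalizer_iff_commutator_le_left.1 hA)) inf_le_right) inf_le_left

end Cfsg.Agent.H24J
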